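import Cfsg.Agent.StdRank2.L3F.Star
import Cfsg.Agent.StdEven.OuterKill

/-!
# S1778, type `L3(q)`, part III, field case: `t ∉ L` and `Û` is a Sylow 2-subgroup of `L`
-/

set_option autoImplicit false

namespace Cfsg.Agent.StdRank2.L3F

open Subgroup Cfsg.Agent.StdL3.Heis Cfsg.Agent.StdL3.HeisTwo

variable {K : Type*} [Field K] {G : Type*} [Group G]

/-- `RingAut K` is commutative. -/
@[reducible] noncomputable def commRingAut (K : Type*) [Field K] [Finite K] [CharP K 2] : CommGroup (RingAut K) :=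
  { (inferInstance : Group (RingAut K)) with mul_comm := OutField.comm }

/-- The field case with the group `L`. -/
structure FE (t : G) (T : Subgroup G) (q : ℕ) (i : Heis K →* G) (τ : RingAut K) (L : Subgroup G) : Prop extends
    FC t T q i τ where
  le_L : i.range ≤ L
  fus : ∀ y : G, y * t = t * y → ∀ f ∈ T, y * f * y⁻¹ ∈ i.range → f ∈ i.range
  lift : ∀ f ∈ T, f * f ∈ i.range → ∃ u, ofRing τ u = u ∧
    ((i u * f) * (i u * f) = 1 ∨ (i u * f) * (i u * f) = t)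

namespace FC

variable {t : G} {T : Subgroup G} {q : ℕ} {i : Heis K →* G} {τ : RingAut K}
variable [Finite G] [Finite K] [CharP K 2] (h : FC t T q i τ)

include h

/-- **(K1)** -/
theorem exists_sylow : ∃ P : Sylow 2 G, (P : Subgroup G) = h.S := by
  refine Cfsg.Agent.StdEven.OuterKill.exists_sylow h.isS h.le_S h.t_mem h.star ?_
  intro Q hQ hQt hSQ
  have hTQ : T ≤ Q := fun x hx => hSQ x (h.T_le hx) (h.comm_T x hx)
  obtain ⟨c, hct, hc⟩ := h.conj_T Q hQ hQt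
  have h1 : Nat.card Q ≤ Nat.card T := by
    apply Nat.card_le_card_of_injective (fun x : Q => (⟨c * x * c⁻¹, hc x x.2⟩ : T))
    intro x y hxy
    have := congrArg Subtype.val hxy
    exact Subtype.ext (mul_left_cancel (mul_right_cancel this))
  have h2 : T = Q := eq_of_le_of_card_ge hTQ h1
  rw [← h2]
  exact h.T_le

/-- **(K2)** -/
theorem t_not_mem {L : Subgroup G} (hL : _root_.commutator L = ⊤) : t ∉ L := by
  obtain ⟨P, hP⟩ := h.exists_sylow
  letI := commRingAut K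
  have htP : t ∈ (P : Subgroup G) := by rw [hP]; exact h.t_mem
  refine Cfsg.Agent.StdEven.OuterKill.not_mem (P := P) (T := i.range) (hP ▸ h.le_S) h.tt htP
    (fun g hg => h.star g (hP ▸ hg)) hL ((sig.comp h.r).comp (inclusion hP.le)) ?_
  show sig (h.r ⟨t, h.t_mem⟩) ≠ 1
  rw [h.sig_t]
  exact h.tau_ne

theorem exists_pow_eq_tau {φ : RingAut K} (hφ : φ ≠ 1) {n : ℕ} (hn : φ ^ 2 ^ n = 1) : ∃ k : ℕ, φ ^ k = τ := by
  classical
  have hex : ∃ m : ℕ, φ ^ 2 ^ m = 1 := ⟨n, hn⟩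
  have h1 := Nat.find_spec hex
  have h2 : Nat.find hex ≠ 0 := by
    intro h0
    rw [h0, pow_zero, pow_one] at h1
    exact hφ h1
  obtain ⟨m, hm⟩ := Nat.exists_eq_succ_of_ne_zero h2
  rw [hm] at h1
  have h3 : ¬ φ ^ 2 ^ m = 1 := Nat.find_min hex (by omega)
  refine ⟨2 ^ m, OutField.unique_invol ?_ h.tau_sq h3 h.tau_ne⟩
  rw [← pow_add, ← two_mul, ← pow_succ', h1]

end FC

namespace FE

variable {t : G} {T : Subgroup G} {q : ℕ} {i : Heis K →* G} {τ : RingAut K} {L : Subgroup G}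
variable [Finite G] [Finite K] [CharP K 2] (h : FE t T q i τ L)

include h

/-- elements of `S ∩ L` preserving `V₁`, `V₂` lie in `Û` -/
theorem mem_range_of_pres (htL : t ∉ L) {x : G} (hx : x ∈ h.toFC.S) (hxL : x ∈ L)
    (hp : Pres (h.toFC.r ⟨x, hx⟩)) : ∃ u, x = i u := by
  by_cases hs : sig (h.toFC.r ⟨x, hx⟩) = 1
  · exact h.toFC.mem_range_of hx hs hp
  · exfalso
    obtain ⟨n, hn⟩ := h.toFC.isS ⟨x, hx⟩
    have hn' : sig (h.toFC.r ⟨x, hx⟩) ^ 2 ^ n = 1 := by rw [← map_pow, ← map_pow, hn, map_one, map_one]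
    obtain ⟨k, hk⟩ := h.toFC.exists_pow_eq_tau hs hn'
    have hxk : x ^ k ∈ h.toFC.S := pow_mem hx k
    have e : (⟨x ^ k, hxk⟩ : h.toFC.S) = ⟨x, hx⟩ ^ k := Subtype.ext rfl
    have hpk : ∀ k : ℕ, Pres (h.toFC.r ⟨x, hx⟩ ^ k) := by
      intro k
      induction k with
      | zero => rw [pow_zero]; exact pres_one
      | succ k ih => rw [pow_succ]; exact ih.mul hp
    obtain ⟨u, hu⟩ := h.toFC.mem_t_range_of hxk (by rw [e, map_pow, map_pow, hk]) (by rw [e, map_pow]; exact hpk k)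
    apply htL
    have h1 : t = x ^ k * (i u)⁻¹ := by rw [hu, mul_inv_cancel_right]
    rw [h1]
    exact mul_mem (pow_mem hxL k) (inv_mem (h.le_L ⟨u, rfl⟩))

/-- **(K3)** -/
theorem main [hLn : L.Normal] (hL : _root_.commutator L = ⊤) :
    t ∉ L ∧ ∃ P : Sylow 2 G, (P : Subgroup G) ⊓ L = i.range := by
  have htL := h.toFC.t_not_mem hL
  refine ⟨htL, ?_⟩
  obtain ⟨P, hP⟩ := h.toFC.exists_sylow
  refine ⟨P, le_antisymm ?_ (le_inf (hP ▸ h.toFC.le_S) h.le_L)⟩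
  by_contra hcon
  obtain ⟨x, hx, hxr⟩ := SetLike.not_le_iff_exists.1 hcon
  rw [hP] at hx
  obtain ⟨hxS, hxL⟩ := mem_inf.1 hx
  -- an element of `T ∩ L` outside `Û`
  obtain ⟨u, f, hf, hxf⟩ := h.toFC.mem_S.1 hxS
  have hfL : f ∈ L := by
    have : f = (i u)⁻¹ * x := by rw [hxf, inv_mul_cancel_left]
    rw [this]
    exact mul_mem (inv_mem (h.le_L ⟨u, rfl⟩)) hxL
  have hfr : f ∉ i.range := by
    intro h1
    apply hxr
    rw [hxf]
    exact mul_mem ⟨u, rfl⟩ h1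
  have hfS := h.toFC.T_le hf
  have hswp : ∀ {y : G} (hy : y ∈ h.toFC.S), y ∈ L → y ∉ i.range → Swp (h.toFC.r ⟨y, hy⟩) := by
    intro y hy hyL hyr
    rcases pres_or_swp (h.toFC.r ⟨y, hy⟩) with h1 | h1
    · obtain ⟨v, hv⟩ := h.mem_range_of_pres htL hy hyL h1
      exact absurd ⟨v, hv.symm⟩ hyr
    · exact h1
  have hff : f * f ∈ i.range := by
    have h1 := hswp hfS hfL hfr
    obtain ⟨v, hv⟩ := h.mem_range_of_pres htL (mul_mem hfS hfS) (mul_mem hfL hfL) (by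
      have e : (⟨f * f, mul_mem hfS hfS⟩ : h.toFC.S) = ⟨f, hfS⟩ * ⟨f, hfS⟩ := rfl
      rw [e, map_mul]
      exact h1.mul h1)
    exact ⟨v, hv.symm⟩
  obtain ⟨w, hw, hw2⟩ := h.lift f hf hff
  obtain ⟨f', hf'⟩ : ∃ f', f' = i w * f := ⟨_, rfl⟩
  rw [← hf'] at hw2
  have hf'L : f' ∈ L := by rw [hf']; exact mul_mem (h.le_L ⟨w, rfl⟩) hfL
  have hf'T : f' ∈ T := by rw [hf']; exact mul_mem (h.cent_mem w hw) hf
  have hf'r : f' ∉ i.range := by
    intro h1
    apply hfr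
    have : f = (i w)⁻¹ * f' := by rw [hf', inv_mul_cancel_left]
    rw [this]
    exact mul_mem (inv_mem ⟨w, rfl⟩) h1
  have hf'2 : f' * f' = 1 := by
    rcases hw2 with h1 | h1
    · exact h1
    · exact absurd (h1 ▸ mul_mem hf'L hf'L) htL
  have hf'S := h.toFC.T_le hf'T
  letI := commRingAut K
  have hPL : (P : Subgroup G) ⊓ L ≤ h.toFC.S := by rw [hP]; exact inf_le_left
  obtain ⟨y, hyt, hy⟩ := Cfsg.Agent.StdEven.OuterKill.no_outer (P := P) (T := i.range) (L := L) (t := t) (f := f')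
    (A := RingAut K × ℤˣ) h.tt (hP ▸ h.toFC.t_mem)
    (by
      rintro _ ⟨v, rfl⟩
      exact ⟨_, (h.act v).symm⟩)
    (fun g hg => h.toFC.star g (hP ▸ hg)) hL (h.toFC.psi.comp (inclusion hPL))
    (by
      intro z hz
      show h.toFC.psi ⟨z, hPL hz⟩ = 1 ↔ _
      rw [h.toFC.psi_eq_one]
      constructor
      · rintro ⟨v, hv⟩; exact ⟨v, hv.symm⟩
      · rintro ⟨v, hv⟩; exact ⟨v, hv.symm⟩)
    hf'2 (h.comm_T f' hf'T) (mem_inf.2 ⟨hP ▸ hf'S, hf'L⟩) hf'r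
    (by
      intro z hz _
      by_cases hzr : z ∈ i.range
      · left
        obtain ⟨v, hv⟩ := hzr
        exact (h.toFC.psi_eq_one (x := ⟨z, hPL hz⟩)).2 ⟨v, hv.symm⟩
      · right
        show h.toFC.psi ⟨z, hPL hz⟩ = h.toFC.psi ⟨f', hf'S⟩
        have hzL := (mem_inf.1 hz).2
        have h1 := hswp (hPL hz) hzL hzr
        have h2 := hswp hf'S hf'L hf'r
        have h3 : z * f' ∈ h.toFC.S := mul_mem (hPL hz) hf'S
        obtain ⟨v, hv⟩ := h.mem_range_of_pres htL h3 (mul_mem hzL hf'L) (by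
          have e : (⟨z * f', h3⟩ : h.toFC.S) = ⟨z, hPL hz⟩ * ⟨f', hf'S⟩ := rfl
          rw [e, map_mul]
          exact h1.mul h2)
        have h4 : h.toFC.psi (⟨z, hPL hz⟩ * ⟨f', hf'S⟩) = 1 := h.toFC.psi_eq_one.2 ⟨v, hv⟩
        have h5 : h.toFC.psi ⟨f', hf'S⟩ * h.toFC.psi ⟨f', hf'S⟩ = 1 := by
          rw [← map_mul]
          have : (⟨f', hf'S⟩ : h.toFC.S) * ⟨f', hf'S⟩ = 1 := Subtype.ext hf'2
          rw [this, map_one]
        rw [map_mul] at h4
        exact mul_right_cancel (h4.trans h5.symm))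
  exact hf'r (h.fus y hyt f' hf'T hy)

end FE

end Cfsg.Agent.StdRank2.L3F
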