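import Cfsg.Agent.StdRank2.L3F.Inst
import Cfsg.Agent.StdRank2.L3Asm

/-!
# S1778, type `L3(q)`: the field case, as the statement of the assembly
-/

set_option autoImplicit false

namespace Cfsg.Agent.StdRank2.L3F.Field

open Cfsg.Agent.StdRank2.L3G Cfsg.Agent.StdRank2.L3Psi

universe u

/-- **The field case.** -/
theorem fieldStmt : L3Asm.FieldStmt.{u} := by
  intro G _ _ L A t F _ _ _ T fr B Ag Bg Zg I C hZ h
  obtain ⟨htL, hP⟩ := Inst.main B I h
  refine ⟨htL, _, hP, L3Asm.endFacts_range (Psi_injective B I) ?_⟩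
  rw [Quad.card_q]
  have h4 := B.sit.four
  nlinarith

end Cfsg.Agent.StdRank2.L3F.Field
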