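import Cfsg.Agent.StdL3.HeisTwo
import Cfsg.Agent.StdRank2.OutField

/-!
# S1778, type `L3(q)`, part III, field case: 2-automorphisms of `Heis K`, `K` a finite field of characteristic 2
-/

set_option autoImplicit false

namespace Cfsg.Agent.StdRank2.L3F

open Cfsg.Agent.StdL3.Heis Cfsg.Agent.StdL3.HeisTwo

variable {K : Type*} [Field K]

/-! ## normal form -/

theorem det_eq (α : MulAut (Heis K)) :
    gam α 1 = (α ⟨1, 0, 0⟩).a * (α ⟨0, 1, 0⟩).b - (α ⟨0, 1, 0⟩).a * (α ⟨1, 0, 0⟩).b := by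
  have h := gam_comm α ⟨1, 0, 0⟩ ⟨0, 1, 0⟩
  simpa using h

theorem gam_eq (α : MulAut (Heis K)) (c : K) : gam α c = sig α c * gam α 1 := by
  rw [← gam_sig, mul_one]

theorem gam_one_ne (α : MulAut (Heis K)) : gam α 1 ≠ 0 := by
  intro h
  have := (gam_bijective α).1 (h.trans (gam_zero α).symm)
  exact one_ne_zero this

theorem map_first (α : MulAut (Heis K)) (c : K) :
    (α ⟨c, 0, 0⟩).a = sig α c * (α ⟨1, 0, 0⟩).a ∧ (α ⟨c, 0, 0⟩).b = sig α c * (α ⟨1, 0, 0⟩).b := by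
  obtain ⟨r, s, hrs⟩ := exists_unimodular α ⟨1, 0, 0⟩ ⟨1, 0, by simp⟩
  have hc : (⟨1, 0, 0⟩ : Heis K) * ⟨c, 0, 0⟩ = ⟨c, 0, 0⟩ * ⟨1, 0, 0⟩ := by
    rw [commute_iff]; simp
  have hc' := congrArg α hc
  rw [map_mul, map_mul] at hc'
  obtain ⟨h1, h2⟩ := eq_smul_of_commute hrs hc'
  set l := r * (α ⟨c, 0, 0⟩).a + s * (α ⟨c, 0, 0⟩).b with hl
  have h3 := gam_comm α ⟨c, 0, 0⟩ ⟨0, 1, 0⟩
  simp only [mul_one, zero_mul, sub_zero] at h3
  rw [gam_eq, det_eq, h1, h2] at h3
  have h4 : sig α c = l := by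
    have h5 := gam_one_ne α
    rw [det_eq] at h5
    apply mul_right_cancel₀ h5
    rw [h3]; ring
  rw [h4]
  exact ⟨h1, h2⟩

theorem map_second (α : MulAut (Heis K)) (c : K) :
    (α ⟨0, c, 0⟩).a = sig α c * (α ⟨0, 1, 0⟩).a ∧ (α ⟨0, c, 0⟩).b = sig α c * (α ⟨0, 1, 0⟩).b := by
  obtain ⟨r, s, hrs⟩ := exists_unimodular α ⟨0, 1, 0⟩ ⟨0, 1, by simp⟩
  have hc : (⟨0, 1, 0⟩ : Heis K) * ⟨0, c, 0⟩ = ⟨0, c, 0⟩ * ⟨0, 1, 0⟩ := by
    rw [commute_iff]; simp
  have hc' := congrArg α hc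
  rw [map_mul, map_mul] at hc'
  obtain ⟨h1, h2⟩ := eq_smul_of_commute hrs hc'
  set l := r * (α ⟨0, c, 0⟩).a + s * (α ⟨0, c, 0⟩).b with hl
  have h3 := gam_comm α ⟨1, 0, 0⟩ ⟨0, c, 0⟩
  simp only [one_mul, zero_mul, sub_zero] at h3
  rw [gam_eq, det_eq, h1, h2] at h3
  have h4 : sig α c = l := by
    have h5 := gam_one_ne α
    rw [det_eq] at h5
    apply mul_right_cancel₀ h5
    rw [h3]; ring
  rw [h4]
  exact ⟨h1, h2⟩

theorem heis_eq (u : Heis K) : u = ⟨u.a, 0, 0⟩ * ⟨0, u.b, 0⟩ * z (u.c - u.a * u.b) := by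
  ext <;> simp

theorem map_a (α : MulAut (Heis K)) (u : Heis K) :
    (α u).a = sig α u.a * (α ⟨1, 0, 0⟩).a + sig α u.b * (α ⟨0, 1, 0⟩).a := by
  have h : α u = α ⟨u.a, 0, 0⟩ * α ⟨0, u.b, 0⟩ * z (gam α (u.c - u.a * u.b)) := by
    conv_lhs => rw [heis_eq u, map_mul, map_mul, map_z]
  rw [h, mul_a, mul_a, z_a, add_zero, (map_first α u.a).1, (map_second α u.b).1]

theorem map_b (α : MulAut (Heis K)) (u : Heis K) :
    (α u).b = sig α u.a * (α ⟨1, 0, 0⟩).b + sig α u.b * (α ⟨0, 1, 0⟩).b := by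
  have h : α u = α ⟨u.a, 0, 0⟩ * α ⟨0, u.b, 0⟩ * z (gam α (u.c - u.a * u.b)) := by
    conv_lhs => rw [heis_eq u, map_mul, map_mul, map_z]
  rw [h, mul_b, mul_b, z_b, add_zero, (map_first α u.a).2, (map_second α u.b).2]

/-! ## preserving or swapping the two elementary subgroups of order `|K|²` -/

/-- `α` preserves `V₁ = {b = 0}` and `V₂ = {a = 0}` -/
def Pres (α : MulAut (Heis K)) : Prop := (α ⟨1, 0, 0⟩).b = 0 ∧ (α ⟨0, 1, 0⟩).a = 0

/-- `α` swaps `V₁` and `V₂` -/
def Swp (α : MulAut (Heis K)) : Prop := (α ⟨1, 0, 0⟩).a = 0 ∧ (α ⟨0, 1, 0⟩).b = 0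

theorem Pres.a {α : MulAut (Heis K)} (h : Pres α) (u : Heis K) :
    (α u).a = sig α u.a * (α ⟨1, 0, 0⟩).a := by
  rw [map_a, h.2, mul_zero, add_zero]

theorem Pres.b {α : MulAut (Heis K)} (h : Pres α) (u : Heis K) :
    (α u).b = sig α u.b * (α ⟨0, 1, 0⟩).b := by
  rw [map_b, h.1, mul_zero, zero_add]

theorem Swp.a {α : MulAut (Heis K)} (h : Swp α) (u : Heis K) :
    (α u).a = sig α u.b * (α ⟨0, 1, 0⟩).a := by
  rw [map_a, h.1, mul_zero, zero_add]

theorem Swp.b {α : MulAut (Heis K)} (h : Swp α) (u : Heis K) :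
    (α u).b = sig α u.a * (α ⟨1, 0, 0⟩).b := by
  rw [map_b, h.2, mul_zero, add_zero]

theorem Pres.not_swp {α : MulAut (Heis K)} (h : Pres α) : ¬ Swp α := by
  intro h'
  apply gam_one_ne α
  rw [det_eq, h.1, h'.1]; simp

theorem pres_or_swp [CharP K 2] (α : MulAut (Heis K)) : Pres α ∨ Swp α := by
  have hsq : ∀ u : Heis K, gam α (u.a * u.b) = (α u).a * (α u).b := by
    intro u
    apply z_inj
    rw [← map_z, ← sq_eq, ← sq_eq, map_mul]
  have h1 : (α ⟨1, 0, 0⟩).a * (α ⟨1, 0, 0⟩).b = 0 := by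
    rw [← hsq]
    simp [gam_zero]
  have h2 : (α ⟨0, 1, 0⟩).a * (α ⟨0, 1, 0⟩).b = 0 := by
    rw [← hsq]
    simp [gam_zero]
  have h3 := gam_one_ne α
  rw [det_eq] at h3
  rcases mul_eq_zero.1 h1 with h | h
  · right
    refine ⟨h, ?_⟩
    rcases mul_eq_zero.1 h2 with h' | h'
    · exact absurd (by rw [h, h']; simp) h3
    · exact h'
  · left
    refine ⟨h, ?_⟩
    rcases mul_eq_zero.1 h2 with h' | h'
    · exact h'
    · exact absurd (by rw [h, h']; simp) h3

theorem Pres.mul {α β : MulAut (Heis K)} (h : Pres α) (h' : Pres β) : Pres (α * β) := by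
  constructor
  · rw [MulAut.mul_apply, h.b, h'.1, map_zero, zero_mul]
  · rw [MulAut.mul_apply, h.a, h'.2, map_zero, zero_mul]

theorem Swp.mul {α β : MulAut (Heis K)} (h : Swp α) (h' : Swp β) : Pres (α * β) := by
  constructor
  · rw [MulAut.mul_apply, h.b, h'.1, map_zero, zero_mul]
  · rw [MulAut.mul_apply, h.a, h'.2, map_zero, zero_mul]

theorem Pres.mul_swp {α β : MulAut (Heis K)} (h : Pres α) (h' : Swp β) : Swp (α * β) := by
  constructor
  · rw [MulAut.mul_apply, h.a, h'.1, map_zero, zero_mul]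
  · rw [MulAut.mul_apply, h.b, h'.2, map_zero, zero_mul]

theorem Swp.mul_pres {α β : MulAut (Heis K)} (h : Swp α) (h' : Pres β) : Swp (α * β) := by
  constructor
  · rw [MulAut.mul_apply, h.a, h'.1, map_zero, zero_mul]
  · rw [MulAut.mul_apply, h.b, h'.2, map_zero, zero_mul]

theorem pres_one : Pres (1 : MulAut (Heis K)) := ⟨rfl, rfl⟩

theorem pres_ofRing (σ : RingAut K) : Pres (ofRing σ) := by
  constructor
  · rw [ofRing_apply]; exact map_zero σ
  · rw [ofRing_apply]; exact map_zero σ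

open Classical in
/-- the sign of the action on `{V₁, V₂}` -/
noncomputable def eps [CharP K 2] : MulAut (Heis K) →* ℤˣ where
  toFun α := if Pres α then 1 else -1
  map_one' := if_pos pres_one
  map_mul' α β := by
    have hn : ∀ γ : MulAut (Heis K), Swp γ → ¬ Pres γ := fun γ h x => x.not_swp h
    rcases pres_or_swp α with h | h <;> rcases pres_or_swp β with h' | h'
    · rw [if_pos h, if_pos h', if_pos (h.mul h'), one_mul]
    · rw [if_pos h, if_neg (hn β h'), if_neg (hn _ (h.mul_swp h')), one_mul]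
    · rw [if_neg (hn α h), if_pos h', if_neg (hn _ (h.mul_pres h')), mul_one]
    · rw [if_neg (hn α h), if_neg (hn β h'), if_pos (h.mul h')]
      rfl

theorem eps_eq_one [CharP K 2] {α : MulAut (Heis K)} : eps α = 1 ↔ Pres α := by
  constructor
  · intro h
    by_contra hn
    have h2 : eps α = -1 := if_neg hn
    rw [h2] at h
    exact absurd h (by decide)
  · intro h
    exact if_pos h

theorem eps_eq_neg [CharP K 2] {α : MulAut (Heis K)} : eps α = -1 ↔ Swp α := by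
  constructor
  · intro h
    rcases pres_or_swp α with h2 | h2
    · rw [eps_eq_one.2 h2] at h
      exact absurd h (by decide)
    · exact h2
  · intro h
    exact if_neg (fun x => x.not_swp h)

/-! ## 2-elements -/

theorem eq_one_of_pow [CharP K 2] {x : K} {n : ℕ} (h : x ^ 2 ^ n = 1) : x = 1 := by
  have : Fact (Nat.Prime 2) := ⟨Nat.prime_two⟩
  have h2 : ExpChar K 2 := ExpChar.prime Nat.prime_two
  have h1 : (x - 1) ^ 2 ^ n = 0 := by
    rw [sub_pow_expChar_pow, h, one_pow, sub_self]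
  exact sub_eq_zero.1 (pow_eq_zero_iff (by positivity) |>.1 h1)

/-- A 2-automorphism with trivial field part preserving `V₁, V₂` is trivial on `U/Z` and `Z`. -/
theorem Pres.trivial [CharP K 2] {α : MulAut (Heis K)} (h : Pres α) (hs : sig α = 1) {n : ℕ}
    (hn : α ^ 2 ^ n = 1) :
    (∀ u, (α u).a = u.a) ∧ (∀ u, (α u).b = u.b) ∧ (∀ c, gam α c = c) := by
  have ha : ∀ u, (α u).a = u.a * (α ⟨1, 0, 0⟩).a := by
    intro u; rw [h.a, hs]; rfl
  have hb : ∀ u, (α u).b = u.b * (α ⟨0, 1, 0⟩).b := by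
    intro u; rw [h.b, hs]; rfl
  have hpa : ∀ k : ℕ, ∀ u, ((α ^ k) u).a = u.a * (α ⟨1, 0, 0⟩).a ^ k := by
    intro k
    induction k with
    | zero => intro u; simp
    | succ k ih => intro u; rw [pow_succ', MulAut.mul_apply, ha, ih, pow_succ, mul_assoc]
  have hpb : ∀ k : ℕ, ∀ u, ((α ^ k) u).b = u.b * (α ⟨0, 1, 0⟩).b ^ k := by
    intro k
    induction k with
    | zero => intro u; simp
    | succ k ih => intro u; rw [pow_succ', MulAut.mul_apply, hb, ih, pow_succ, mul_assoc]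
  have h1 : (α ⟨1, 0, 0⟩).a = 1 := by
    have := hpa (2 ^ n) ⟨1, 0, 0⟩
    rw [hn] at this
    simp only [MulAut.one_apply, one_mul] at this
    exact eq_one_of_pow this.symm
  have h2 : (α ⟨0, 1, 0⟩).b = 1 := by
    have := hpb (2 ^ n) ⟨0, 1, 0⟩
    rw [hn] at this
    simp only [MulAut.one_apply, one_mul] at this
    exact eq_one_of_pow this.symm
  refine ⟨fun u => by rw [ha, h1, mul_one], fun u => by rw [hb, h2, mul_one], fun c => ?_⟩
  rw [gam_eq, det_eq, h1, h2, h.1, hs]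
  simp

/-! ## involutory automorphisms with nontrivial field part -/

/-- all involutions of the coset are conjugate -/
theorem exists_conj [CharP K 2] {α : MulAut (Heis K)} (hα : α * α = 1) (hs : sig α ≠ 1) {x : Heis K}
    (hx : α x * x = 1) : ∃ v, α v * v⁻¹ = x := by
  have hs2 : sig α * sig α = 1 := by rw [← map_mul, hα, map_one]
  obtain ⟨r, hr⟩ := OutField.exists_trace hs2 hs (map_one (sig α))
  have hαα : ∀ w, α (α w) = w := by
    intro w
    rw [← MulAut.mul_apply, hα]; rfl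
  have hxa : (α x).a = x.a := by
    have := congrArg Heis.a hx
    simp only [mul_a, one_a] at this
    exact CharTwo.add_eq_zero.1 this
  have hxb : (α x).b = x.b := by
    have := congrArg Heis.b hx
    simp only [mul_b, one_b] at this
    exact CharTwo.add_eq_zero.1 this
  set v0 : Heis K := ⟨r * x.a, r * x.b, 0⟩ with hv0
  have h1 : (α v0).a = sig α r * x.a := by
    have e : (α x).a = sig α x.a * (α ⟨1, 0, 0⟩).a + sig α x.b * (α ⟨0, 1, 0⟩).a := map_a α x
    rw [map_a, hv0]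
    simp only [map_mul]
    linear_combination (sig α r) * (hxa - e)
  have h2 : (α v0).b = sig α r * x.b := by
    have e : (α x).b = sig α x.a * (α ⟨1, 0, 0⟩).b + sig α x.b * (α ⟨0, 1, 0⟩).b := map_b α x
    rw [map_b, hv0]
    simp only [map_mul]
    linear_combination (sig α r) * (hxb - e)
  set y0 : Heis K := α v0 * v0⁻¹ with hy0
  have hy1 : α y0 * y0 = 1 := by
    rw [hy0, map_mul, map_inv, hαα]
    group
  have hw : x⁻¹ * y0 ∈ J K := by
    rw [mem_J]
    constructor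
    · rw [mul_a, inv_a, hy0, mul_a, inv_a, h1, hv0]
      have : r + sig α r = 1 := hr
      have e : -x.a + (sig α r * x.a + -(r * x.a)) = (r + sig α r - 1) * x.a - 2 * (r * x.a) := by ring
      rw [e, this, sub_self, zero_mul, CharTwo.two_eq_zero, zero_mul, sub_zero]
    · rw [mul_b, inv_b, hy0, mul_b, inv_b, h2, hv0]
      have : r + sig α r = 1 := hr
      have e : -x.b + (sig α r * x.b + -(r * x.b)) = (r + sig α r - 1) * x.b - 2 * (r * x.b) := by ring
      rw [e, this, sub_self, zero_mul, CharTwo.two_eq_zero, zero_mul, sub_zero]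
  obtain ⟨e, he⟩ := mem_J_iff_exists.1 hw
  have hxe : x = y0 * z e := by
    have h3 : y0 = x * z e := by rw [← he]; group
    rw [h3, mul_assoc, z_sq, mul_one]
  have hge : gam α e = e := by
    have h3 : α x * x = z (gam α e + e) := by
      rw [hxe, map_mul, map_z]
      calc α y0 * z (gam α e) * (y0 * z e) = α y0 * (z (gam α e) * y0) * z e := by group
        _ = (α y0 * y0) * (z (gam α e) * z e) := by rw [z_comm]; group
        _ = z (gam α e + e) := by rw [hy1, one_mul, z_mul]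
    rw [hx] at h3
    have h4 : (0 : K) = gam α e + e := z_inj (z_zero.trans h3)
    exact CharTwo.add_eq_zero.1 h4.symm
  refine ⟨v0 * z (r * e), ?_⟩
  have h5 : z (gam α (r * e)) * (z (r * e))⁻¹ = z e := by
    rw [z_inv, z_mul, gam_sig, hge]
    congr 1
    have : r + sig α r = 1 := hr
    have e' : sig α r * e + -(r * e) = (r + sig α r) * e - 2 * (r * e) := by ring
    rw [e', this, one_mul, CharTwo.two_eq_zero, zero_mul, sub_zero]
  rw [map_mul, map_z, mul_inv_rev]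
  calc α v0 * z (gam α (r * e)) * ((z (r * e))⁻¹ * v0⁻¹) = α v0 * (z (gam α (r * e)) * (z (r * e))⁻¹) * v0⁻¹ := by
        group
    _ = α v0 * (z e * v0⁻¹) := by rw [h5, mul_assoc]
    _ = α v0 * v0⁻¹ * z e := by rw [z_comm, mul_assoc]
    _ = x := hxe.symm

variable [Finite K]

theorem card_fixJ [CharP K 2] {α : MulAut (Heis K)} (hα : α * α = 1) (hs : sig α ≠ 1) :
    Nat.card (fixJ α) ^ 2 = Nat.card K := by
  have hs2 : sig α * sig α = 1 := by rw [← map_mul, hα, map_one]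
  obtain ⟨r, hr⟩ := OutField.exists_trace hs2 hs (map_one (sig α))
  have hr2 : sig α r = r + 1 := by
    have : r + sig α r = 1 := hr
    have e : sig α r = (r + sig α r) - r := by ring
    rw [e, this, CharTwo.sub_eq_add, add_comm]
  exact card_fix_sq hα hr2

theorem card_fixAll [CharP K 2] {α : MulAut (Heis K)} (hα : α * α = 1) (hs : sig α ≠ 1) {q : ℕ}
    (hq : Nat.card K = q ^ 2) : Nat.card (fixJ α) = q ∧ q ^ 3 ≤ Nat.card (fixAll α) := by
  have h1 := card_fixJ hα hs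
  have h2 : Nat.card (fixJ α) = q := by
    rw [hq] at h1
    exact Nat.pow_left_injective (n := 2) (by norm_num) h1
  refine ⟨h2, ?_⟩
  have h3 := card_ker_ge hα
  have h4 := card_ker_le hα
  rw [h2] at h4
  rw [hq] at h3
  have hq0 : 0 < q := by
    rcases Nat.eq_zero_or_pos q with h | h
    · rw [h] at hq
      have := Nat.card_pos (α := K)
      omega
    · exact h
  have h5 : q ^ 3 * q ≤ Nat.card (fixAll α) * q := by
    calc q ^ 3 * q = (q ^ 2) ^ 2 := by ring
      _ ≤ _ := h3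
      _ ≤ _ := h4
  exact Nat.le_of_mul_le_mul_right h5 hq0

omit [Finite K] in
/-- a swapping automorphism has no fixed involutions outside `J` -/
theorem Swp.mem_J [CharP K 2] {α : MulAut (Heis K)} (h : Swp α) {u : Heis K} (hu : u * u = 1) (hf : α u = u) :
    u ∈ J K := by
  rw [Cfsg.Agent.StdL3.HeisTwo.sq_eq_one_iff] at hu
  have h1 := h.a u
  have h2 := h.b u
  rw [hf] at h1 h2
  rcases mul_eq_zero.1 hu with h3 | h3
  · exact ⟨h3, by rw [h2, h3, map_zero, zero_mul]⟩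
  · exact ⟨by rw [h1, h3, map_zero, zero_mul], h3⟩

omit [Finite K] in
/-- a swapping automorphism of order 2 with trivial field part -/
theorem Swp.of_sig_one [CharP K 2] {α : MulAut (Heis K)} (h : Swp α) (hα : α * α = 1) (hs : sig α = 1) :
    ∃ m n : K, m * n = 1 ∧ (∀ u, (α u).a = m * u.b) ∧ (∀ u, (α u).b = n * u.a) ∧ (∀ c, gam α c = c) := by
  have ha : ∀ u, (α u).a = (α ⟨0, 1, 0⟩).a * u.b := by
    intro u; rw [h.a, hs, mul_comm]; rfl
  have hb : ∀ u, (α u).b = (α ⟨1, 0, 0⟩).b * u.a := by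
    intro u; rw [h.b, hs, mul_comm]; rfl
  have h1 : (α ⟨0, 1, 0⟩).a * (α ⟨1, 0, 0⟩).b = 1 := by
    have h2 := ha (α ⟨1, 0, 0⟩)
    rw [← MulAut.mul_apply, hα] at h2
    exact h2.symm
  refine ⟨_, _, h1, ha, hb, fun c => ?_⟩
  rw [gam_eq, det_eq, h.1, hs, h1, zero_mul, zero_sub, mul_neg, mul_one, CharTwo.neg_eq]
  rfl

end Cfsg.Agent.StdRank2.L3F
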