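import Cfsg.Agent.StdRank2.L3F.Aut

/-!
# S1778, type `L3(q)`, part III, field case: the configuration `FC`, the group `S = Û T` and its action on `Û`
-/

set_option autoImplicit false

namespace Cfsg.Agent.StdRank2.L3F

open Subgroup Cfsg.Agent.StdL3.Heis Cfsg.Agent.StdL3.HeisTwo

variable {K : Type*} [Field K]

/-- the two elementary abelian subgroups of order `|K|²` -/
def V : Bool → Subgroup (Heis K)
  | false =>
    { carrier := {u | u.b = 0}
      mul_mem' := by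
        intro u v hu hv
        show (u * v).b = 0
        rw [mul_b, show u.b = 0 from hu, show v.b = 0 from hv, add_zero]
      one_mem' := rfl
      inv_mem' := by
        intro u hu
        show (u⁻¹).b = 0
        rw [inv_b, show u.b = 0 from hu, neg_zero] }
  | true =>
    { carrier := {u | u.a = 0}
      mul_mem' := by
        intro u v hu hv
        show (u * v).a = 0
        rw [mul_a, show u.a = 0 from hu, show v.a = 0 from hv, add_zero]
      one_mem' := rfl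
      inv_mem' := by
        intro u hu
        show (u⁻¹).a = 0
        rw [inv_a, show u.a = 0 from hu, neg_zero] }

theorem mem_V_false {u : Heis K} : u ∈ V (K := K) false ↔ u.b = 0 := Iff.rfl
theorem mem_V_true {u : Heis K} : u ∈ V (K := K) true ↔ u.a = 0 := Iff.rfl

theorem V_comm {j : Bool} {u v : Heis K} (hu : u ∈ V (K := K) j) (hv : v ∈ V (K := K) j) : u * v = v * u := by
  rw [commute_iff]
  cases j
  · rw [mem_V_false.1 hu, mem_V_false.1 hv]; ring
  · rw [mem_V_true.1 hu, mem_V_true.1 hv]; ring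

theorem V_sq [CharP K 2] {j : Bool} {u : Heis K} (hu : u ∈ V (K := K) j) : u * u = 1 := by
  rw [Cfsg.Agent.StdL3.HeisTwo.sq_eq_one_iff]
  cases j
  · rw [mem_V_false.1 hu, mul_zero]
  · rw [mem_V_true.1 hu, zero_mul]

theorem exists_V [CharP K 2] {u : Heis K} (hu : u * u = 1) : ∃ j : Bool, u ∈ V (K := K) j := by
  rw [Cfsg.Agent.StdL3.HeisTwo.sq_eq_one_iff] at hu
  rcases mul_eq_zero.1 hu with h | h
  · exact ⟨true, mem_V_true.2 h⟩
  · exact ⟨false, mem_V_false.2 h⟩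

theorem z_mem_V (j : Bool) (c : K) : z c ∈ V (K := K) j := by
  cases j
  · exact mem_V_false.2 rfl
  · exact mem_V_true.2 rfl

/-- `V j ≃ K × K` -/
def vEquiv (K : Type*) [Field K] : (j : Bool) → V (K := K) j ≃ K × K
  | false =>
    { toFun := fun u => (u.1.a, u.1.c)
      invFun := fun p => ⟨⟨p.1, 0, p.2⟩, rfl⟩
      left_inv := fun u => Subtype.ext (Heis.ext rfl (mem_V_false.1 u.2).symm rfl)
      right_inv := fun _ => rfl }
  | true =>
    { toFun := fun u => (u.1.b, u.1.c)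
      invFun := fun p => ⟨⟨0, p.1, p.2⟩, rfl⟩
      left_inv := fun u => Subtype.ext (Heis.ext (mem_V_true.1 u.2).symm rfl rfl)
      right_inv := fun _ => rfl }

theorem card_V (j : Bool) : Nat.card (V (K := K) j) = Nat.card K ^ 2 := by
  rw [Nat.card_congr (vEquiv K j), Nat.card_prod, sq]

theorem ofRing_mem_V {τ : RingAut K} {j : Bool} {u : Heis K} (hu : u ∈ V (K := K) j) :
    ofRing τ u ∈ V (K := K) j := by
  cases j
  · exact mem_V_false.2 (by rw [ofRing_apply, show u.b = 0 from hu]; exact map_zero τ)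
  · exact mem_V_true.2 (by rw [ofRing_apply, show u.a = 0 from hu]; exact map_zero τ)

/-- the fixed points of `τ` in `V j` -/
def E (τ : RingAut K) (j : Bool) : Subgroup (Heis K) := V (K := K) j ⊓ fixAll (ofRing τ)

theorem mem_E {τ : RingAut K} {j : Bool} {u : Heis K} : u ∈ E τ j ↔ u ∈ V (K := K) j ∧ ofRing τ u = u := Iff.rfl

theorem ofRing_eq_iff {τ : RingAut K} {u : Heis K} : ofRing τ u = u ↔ τ u.a = u.a ∧ τ u.b = u.b ∧ τ u.c = u.c := by
  rw [ofRing_apply, Heis.ext_iff]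

/-- `E j ≃ Fix τ × Fix τ` -/
def eEquiv (τ : RingAut K) : (j : Bool) → E τ j ≃ {x : K // τ x = x} × {x : K // τ x = x}
  | false =>
    { toFun := fun u => (⟨u.1.a, (ofRing_eq_iff.1 u.2.2).1⟩, ⟨u.1.c, (ofRing_eq_iff.1 u.2.2).2.2⟩)
      invFun := fun p => ⟨⟨p.1, 0, p.2⟩, rfl, ofRing_eq_iff.2 ⟨p.1.2, map_zero τ, p.2.2⟩⟩
      left_inv := fun u => Subtype.ext (Heis.ext rfl (mem_V_false.1 u.2.1).symm rfl)
      right_inv := fun _ => rfl }
  | true =>
    { toFun := fun u => (⟨u.1.b, (ofRing_eq_iff.1 u.2.2).2.1⟩, ⟨u.1.c, (ofRing_eq_iff.1 u.2.2).2.2⟩)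
      invFun := fun p => ⟨⟨0, p.1, p.2⟩, rfl, ofRing_eq_iff.2 ⟨map_zero τ, p.1.2, p.2.2⟩⟩
      left_inv := fun u => Subtype.ext (Heis.ext (mem_V_true.1 u.2.1).symm rfl rfl)
      right_inv := fun _ => rfl }

/-- `Fix (ofRing τ) ≃ (Fix τ)³` -/
def fEquiv (τ : RingAut K) : fixAll (ofRing τ) ≃ ({x : K // τ x = x} × {x : K // τ x = x}) × {x : K // τ x = x} where
  toFun u := ((⟨u.1.a, (ofRing_eq_iff.1 u.2).1⟩, ⟨u.1.b, (ofRing_eq_iff.1 u.2).2.1⟩),
    ⟨u.1.c, (ofRing_eq_iff.1 u.2).2.2⟩)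
  invFun p := ⟨⟨p.1.1, p.1.2, p.2⟩, ofRing_eq_iff.2 ⟨p.1.1.2, p.1.2.2, p.2.2⟩⟩
  left_inv _ := rfl
  right_inv _ := rfl

variable {G : Type*} [Group G]

/-- The configuration in the field case. -/
structure FC (t : G) (T : Subgroup G) (q : ℕ) (i : Heis K →* G) (τ : RingAut K) : Prop where
  inj : Function.Injective i
  tau_sq : τ * τ = 1
  tau_ne : τ ≠ 1
  card : Nat.card K = q ^ 2
  four_le : 4 ≤ q
  tt : t * t = 1
  act : ∀ x, t * i x * t⁻¹ = i (ofRing τ x)
  isT : IsPGroup 2 T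
  mem_T : t ∈ T
  comm_T : ∀ x ∈ T, x * t = t * x
  conj_T : ∀ X : Subgroup G, IsPGroup 2 X → (∀ x ∈ X, x * t = t * x) → ∃ c, c * t = t * c ∧ ∀ x ∈ X, c * x * c⁻¹ ∈ T
  norm : T ≤ normalizer (i.range : Set G)
  cent_mem : ∀ x, ofRing τ x = x → i x ∈ T
  je : ∀ X : Subgroup G, X ≤ T → (∀ x ∈ X, x * x = 1) → 2 * q ^ 2 ≤ Nat.card X →
    ∃ j : Bool, ∀ x ∈ X, ∃ e ∈ E τ j, x = i e ∨ x = t * i e
  cent : ∀ (j : Bool) (x : G), x * t = t * x → (∀ e ∈ E τ j, x * i e = i e * x) →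
    ∃ o : G, ∃ a ∈ E τ j, Odd (orderOf o) ∧ o * t = t * o ∧ (∀ e ∈ V (K := K) j, o * i e = i e * o) ∧
      (x = o * i a ∨ x = o * (t * i a))
  triv : ∀ f ∈ T, ∀ β : MulAut (Heis K), (∀ u, f * i u * f⁻¹ = i (β u)) → (∀ u, (β u).a = u.a) →
    (∀ u, (β u).b = u.b) → (∀ c, gam β c = c) → ∃ a, ofRing τ a = a ∧ (f = i a ∨ f = t * i a)

/-- the action of the normalizer of the image of `i` -/
noncomputable def rho {i : Heis K →* G} (hi : Function.Injective i) :
    ↥(normalizer (i.range : Set G)) →* MulAut (Heis K) :=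
  (MulAut.congr (MonoidHom.ofInjective hi).symm).toMonoidHom.comp (Subgroup.normalizerMonoidHom i.range)

theorem rho_spec {i : Heis K →* G} (hi : Function.Injective i) (g : ↥(normalizer (i.range : Set G))) (u : Heis K) :
    (g : G) * i u * (g : G)⁻¹ = i (rho hi g u) := by
  have h1 : ∀ y : i.range, i ((MonoidHom.ofInjective hi).symm y) = y := by
    intro y
    have h2 := (MonoidHom.ofInjective hi).apply_symm_apply y
    exact congrArg Subtype.val h2
  have h3 : rho hi g u = (MonoidHom.ofInjective hi).symm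
      (Subgroup.normalizerMonoidHom i.range g ((MonoidHom.ofInjective hi) u)) := rfl
  rw [h3, h1]
  rfl

theorem rho_eq {i : Heis K →* G} (hi : Function.Injective i) (g : ↥(normalizer (i.range : Set G)))
    {α : MulAut (Heis K)} (h : ∀ u, (g : G) * i u * (g : G)⁻¹ = i (α u)) : rho hi g = α := by
  ext1 u
  apply hi
  rw [← rho_spec, h]

namespace FC

variable {t : G} {T : Subgroup G} {q : ℕ} {i : Heis K →* G} {τ : RingAut K}

/-- the candidate for the Sylow 2-subgroup -/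
def S (_ : FC t T q i τ) : Subgroup G := i.range ⊔ T

variable (h : FC t T q i τ)

include h

theorem le_S : i.range ≤ h.S := le_sup_left
theorem T_le : T ≤ h.S := le_sup_right
theorem i_mem (u : Heis K) : i u ∈ h.S := h.le_S ⟨u, rfl⟩
theorem t_mem : t ∈ h.S := h.T_le h.mem_T

theorem S_le : h.S ≤ normalizer (i.range : Set G) := sup_le le_normalizer h.norm

theorem mem_S {x : G} : x ∈ h.S ↔ ∃ u, ∃ f ∈ T, x = i u * f := by
  have h1 := coe_mul_of_right_le_normalizer_left i.range T h.norm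
  constructor
  · intro hx
    have h2 : x ∈ (↑(i.range ⊔ T) : Set G) := hx
    rw [h1] at h2
    obtain ⟨_, ⟨u, rfl⟩, f, hf, rfl⟩ := h2
    exact ⟨u, f, hf, rfl⟩
  · rintro ⟨u, f, hf, rfl⟩
    exact mul_mem (h.i_mem u) (h.T_le hf)

/-- the action of `S` -/
noncomputable def r : ↥h.S →* MulAut (Heis K) := (rho h.inj).comp (inclusion h.S_le)

theorem r_spec (g : h.S) (u : Heis K) : (g : G) * i u * (g : G)⁻¹ = i (h.r g u) :=
  rho_spec h.inj (inclusion h.S_le g) u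

theorem r_eq (g : h.S) {α : MulAut (Heis K)} (hα : ∀ u, (g : G) * i u * (g : G)⁻¹ = i (α u)) : h.r g = α :=
  rho_eq h.inj (inclusion h.S_le g) hα

theorem r_t : h.r ⟨t, h.t_mem⟩ = ofRing τ := h.r_eq _ h.act

theorem r_i (u : Heis K) : h.r ⟨i u, h.i_mem u⟩ = MulAut.conj u :=
  h.r_eq _ (fun v => by rw [MulAut.conj_apply, map_mul, map_mul, map_inv])

omit [Group G] h in
theorem pres_conj (u : Heis K) : Pres (MulAut.conj u : MulAut (Heis K)) := by
  constructor
  · rw [MulAut.conj_apply, mul_b, mul_b, inv_b]; ring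
  · rw [MulAut.conj_apply, mul_a, mul_a, inv_a]; ring

omit [Group G] h in
theorem sig_conj (u : Heis K) : sig (MulAut.conj u : MulAut (Heis K)) = 1 := by
  apply sig_eq_of_gam _ _ 1
  intro c
  rw [mul_one]
  apply z_inj
  rw [← map_z, MulAut.conj_apply, ← z_comm]
  show z c * u * u⁻¹ = z c
  rw [mul_inv_cancel_right]

theorem sig_t : sig (h.r ⟨t, h.t_mem⟩) = τ := by rw [h.r_t, sig_ofRing]

theorem pres_t : Pres (h.r ⟨t, h.t_mem⟩) := by rw [h.r_t]; exact pres_ofRing τ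

theorem sig_i (u : Heis K) : sig (h.r ⟨i u, h.i_mem u⟩) = 1 := by rw [h.r_i, sig_conj]

theorem pres_i (u : Heis K) : Pres (h.r ⟨i u, h.i_mem u⟩) := by rw [h.r_i]; exact pres_conj u

variable [CharP K 2]

theorem heis_four (u : Heis K) : u ^ 4 = 1 := by
  have h1 : u * u = z (u.a * u.b) := sq_eq u
  rw [show 4 = 2 * 2 from rfl, pow_mul, pow_two u, h1, pow_two, z_sq]

theorem isRange : IsPGroup 2 i.range := by
  rintro ⟨_, u, rfl⟩
  refine ⟨2, Subtype.ext ?_⟩
  show i u ^ 2 ^ 2 = 1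
  rw [← map_pow, show 2 ^ 2 = 4 from rfl, h.heis_four, map_one]

theorem isS : IsPGroup 2 h.S := h.isRange.to_sup_of_normal_left' h.isT h.norm

/-- kernel of the action on the field and on `{V₁, V₂}` -/
theorem mem_range_of {x : G} (hx : x ∈ h.S) (hs : sig (h.r ⟨x, hx⟩) = 1) (hp : Pres (h.r ⟨x, hx⟩)) :
    ∃ u, x = i u := by
  obtain ⟨u, f, hf, rfl⟩ := h.mem_S.1 hx
  have e : (⟨i u * f, hx⟩ : h.S) = ⟨i u, h.i_mem u⟩ * ⟨f, h.T_le hf⟩ := rfl
  rw [e, map_mul] at hs hp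
  rw [map_mul, h.sig_i, one_mul] at hs
  have hp' : Pres (h.r ⟨f, h.T_le hf⟩) := by
    rcases pres_or_swp (h.r ⟨f, h.T_le hf⟩) with h1 | h1
    · exact h1
    · exact absurd ((h.pres_i u).mul_swp h1) hp.not_swp
  obtain ⟨n, hn⟩ := h.isT ⟨f, hf⟩
  have hn' : h.r ⟨f, h.T_le hf⟩ ^ 2 ^ n = 1 := by
    rw [← map_pow]
    have : (⟨f, h.T_le hf⟩ : h.S) ^ 2 ^ n = 1 := by
      apply Subtype.ext
      show f ^ 2 ^ n = 1
      exact congrArg Subtype.val hn
    rw [this, map_one]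
  obtain ⟨h1, h2, h3⟩ := hp'.trivial hs hn'
  obtain ⟨a, ha, h4 | h4⟩ := h.triv f hf _ (fun u => h.r_spec ⟨f, h.T_le hf⟩ u) h1 h2 h3
  · exact ⟨u * a, by rw [h4, map_mul]⟩
  · exfalso
    apply h.tau_ne
    have e2 : (⟨f, h.T_le hf⟩ : h.S) = ⟨t, h.t_mem⟩ * ⟨i a, h.i_mem a⟩ := Subtype.ext h4
    rw [e2, map_mul, map_mul, h.sig_t, h.sig_i, mul_one] at hs
    exact hs

theorem mem_t_range_of {x : G} (hx : x ∈ h.S) (hs : sig (h.r ⟨x, hx⟩) = τ) (hp : Pres (h.r ⟨x, hx⟩)) :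
    ∃ u, x = t * i u := by
  have h1 : t * x ∈ h.S := mul_mem h.t_mem hx
  have e : (⟨t * x, h1⟩ : h.S) = ⟨t, h.t_mem⟩ * ⟨x, hx⟩ := rfl
  obtain ⟨u, hu⟩ := h.mem_range_of h1 (by rw [e, map_mul, map_mul, h.sig_t, hs, h.tau_sq])
    (by rw [e, map_mul]; exact h.pres_t.mul hp)
  refine ⟨u, ?_⟩
  rw [← hu, ← mul_assoc, h.tt, one_mul]

omit [CharP K 2] in
theorem t_not_range (u : Heis K) : t ≠ i u := by
  intro h1
  apply h.tau_ne
  have e : (⟨t, h.t_mem⟩ : h.S) = ⟨i u, h.i_mem u⟩ := Subtype.ext h1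
  rw [← h.sig_t, e, h.sig_i]

omit [CharP K 2] in
theorem t_inv : t⁻¹ = t := inv_eq_of_mul_eq_one_right h.tt

/-- all involutions of `tÛ` are conjugate -/
theorem conj_of {x : Heis K} (hx : (t * i x) * (t * i x) = 1) : ∃ v, t * i x = i v * t * (i v)⁻¹ := by
  have h1 : ofRing τ x * x = 1 := by
    apply h.inj
    rw [map_mul, map_one, ← h.act, h.t_inv]
    rw [← hx]; group
  obtain ⟨v, hv⟩ := exists_conj (α := ofRing τ) (by
    ext1 u
    rw [MulAut.mul_apply, ofRing_apply, ofRing_apply]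
    apply Heis.ext <;> exact OutField.invol_apply h.tau_sq _) (by rw [sig_ofRing]; exact h.tau_ne) h1
  refine ⟨v, ?_⟩
  rw [← hv, map_mul, ← h.act, map_inv, h.t_inv]
  calc t * (t * i v * t * (i v)⁻¹) = (t * t) * i v * t * (i v)⁻¹ := by group
    _ = _ := by rw [h.tt, one_mul]

variable [Finite K]

theorem card_fix : Nat.card {x : K // τ x = x} = q := by
  have h1 := OutField.card_fix h.tau_sq h.tau_ne
  rw [h.card, ← sq] at h1
  exact Nat.pow_left_injective (n := 2) (by norm_num) h1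

theorem card_E (j : Bool) : Nat.card (E τ j) = q ^ 2 := by
  rw [Nat.card_congr (eEquiv τ j), Nat.card_prod, h.card_fix, sq]

theorem card_fixAll : Nat.card (fixAll (ofRing τ)) = q ^ 3 := by
  rw [Nat.card_congr (fEquiv τ), Nat.card_prod, Nat.card_prod, h.card_fix]; ring

end FC

end Cfsg.Agent.StdRank2.L3F
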