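import Cfsg.Agent.StdRank2.L3Psi
import Cfsg.Agent.StdRank2.L3F.Main

/-!
# S1778, type `L3(q)`, part III, field case: the instance of `L3F.FE`
-/

set_option autoImplicit false
set_option linter.unusedSectionVars false

namespace Cfsg.Agent.StdRank2.L3F.Inst

open Subgroup Cfsg.Agent.StdRank2.FrameL3 Cfsg.Agent.StdRank2.L3G Quad Cfsg.Agent.StdRank2.L3X
open Cfsg.Agent.StdRank2.L3Roots Cfsg.Agent.StdRank2.L3Inst Cfsg.Agent.StdRank2.L3RLift
open Cfsg.Agent.StdRank2.L3Psi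
open Cfsg.Agent.StdEven.CoreQuot Cfsg.Agent.StdSpFour.Lift Cfsg.Agent.StdEven.Syl Cfsg.Agent.StdEven.Loc
open Cfsg.Agent.StdL3.Heis Cfsg.Agent.StdL3.HeisTwo

variable {G : Type*} [Group G] [Finite G] {L A : Subgroup G} {t : G} {T : Subgroup G}
  {F : Type*} [Field F] [Finite F] [CharP F 2] {fr : FrameL3 A F}
  (B : Both L A t T fr) {Ag Bg Zg : Subgroup (XQ A t)} (I : Input B.xsit Ag Bg Zg)

include B in
theorem hA : _root_.commutator ↥A = ⊤ := L3Inst.perf B.hyp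

theorem Psi_one (r z : F) : Psi B I ⟨con r, 0, con z⟩ = OutL3Rel.u fr r 0 z := by
  have h1 := Psi_con' B I r 0 z
  rw [mul_zero, zero_add] at h1
  rw [OutL3Rel.u_eq_el, mul_zero, sub_zero]
  exact h1

theorem Psi_two' (s z : F) : Psi B I ⟨0, con s, con z⟩ = OutL3Rel.u fr 0 s z := by
  have h1 := Psi_con' B I 0 s z
  rw [zero_mul, zero_add] at h1
  rw [OutL3Rel.u_eq_el, zero_mul, sub_zero]
  exact h1

theorem Psi_u (r s z : F) : Psi B I ⟨con r, con s, con z⟩ = OutL3Rel.u fr r s z := by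
  rw [Psi_con', OutL3Rel.u_eq_el]
  congr 1
  rw [sub_eq_add_neg, CharTwo.neg_eq, add_comm]

include B in
theorem comm_t {a : G} (ha : a ∈ A) : a * t = t * a := (comm_of_centralizer B.hyp.htA ha).symm

theorem core_comm {o : G} (ho : o ∈ core A t) (u : Heis (Q I.K.g)) : o * Psi B I u = Psi B I u * o :=
  Psi_core B I u ho

include B in
/-- the common part of `cent` -/
theorem cent_aux {x e : G} (he : e ∈ A) (hxt : x * t = t * x) (h : e⁻¹ * x ∈ centralizer (A : Set G)) :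
    ∃ o : G, o ∈ core A t ∧ (x = o * e ∨ x = o * (t * e)) := by
  have h1 : (e⁻¹ * x) * t = t * (e⁻¹ * x) := by
    have h2 := comm_t B (inv_mem he)
    rw [mul_assoc, hxt, ← mul_assoc, h2, mul_assoc]
  have h3 : e * (e⁻¹ * x) = (e⁻¹ * x) * e := (comm_of_centralizer h he).symm
  have h4 : x = (e⁻¹ * x) * e := by rw [← h3, mul_inv_cancel_left]
  rcases B.hyp.mem_core_or h h1 with h5 | h5
  · exact ⟨_, h5, Or.inl h4⟩
  · refine ⟨_, h5, Or.inr ?_⟩
    have h6 := B.hyp.tt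
    calc x = (e⁻¹ * x) * e := h4
      _ = (t * t) * (e⁻¹ * x) * e := by rw [h6, one_mul]
      _ = t * (t * (e⁻¹ * x)) * e := by group
      _ = t * ((e⁻¹ * x) * t) * e := by rw [← h1]
      _ = t * (e⁻¹ * x) * (t * e) := by group

include B in
theorem odd_core {o : G} (ho : o ∈ core A t) : Odd (orderOf o) := (B.hyp.mem_core.1 ho).2.2

theorem roots_mem_L {i j : Fin 3} (hij : i ≠ j) (u : Q I.K.g) : (roots B I.roots).y i j u ∈ L := by
  obtain ⟨k, hik, hkj⟩ := exists_third i j hij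
  have h1 := (roots B I.roots).conj hik hkj hij 1 u
  rw [one_mul] at h1
  have h3 : (1 : Q I.K.g) = con 1 := rfl
  rw [h3, (roots B I.roots).con hik] at h1
  have h4 : fr.x i k 1 ∈ L := B.sit.conf.le (fr.mem hik 1)
  have h2 : (roots B I.roots).y i j u = fr.x i k 1 *
      ((roots B I.roots).y k j u * (fr.x i k 1)⁻¹ * ((roots B I.roots).y k j u)⁻¹) := by
    rw [eq_mul_inv_of_mul_eq h1.symm]; group
  rw [h2]
  have := B.sit.conf.normal
  exact mul_mem h4 (this.conj_mem _ (inv_mem h4) _)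

theorem le_L : (Psi B I).range ≤ L := by
  rintro _ ⟨u, rfl⟩
  rw [Psi_apply]
  exact mul_mem (mul_mem (roots_mem_L B I (by decide) _) (roots_mem_L B I (by decide) _))
    (roots_mem_L B I (by decide) _)

theorem fus {y f : G} (hyt : y * t = t * y) (hf : f ∈ T) (h : y * f * y⁻¹ ∈ (Psi B I).range) :
    f ∈ (Psi B I).range := by
  obtain ⟨u, hu⟩ := h
  have hft : f * t = t * f := B.hyp.isT.cent f hf
  have hyA := B.hyp.mem_normalizer hyt
  have h1 : Psi B I u * t = t * Psi B I u := by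
    rw [hu]
    have h2 : y⁻¹ * t = t * y⁻¹ := by
      rw [inv_mul_eq_iff_eq_mul, ← mul_assoc, hyt, mul_inv_cancel_right]
    calc y * f * y⁻¹ * t = y * f * (y⁻¹ * t) := by group
      _ = y * (f * t) * y⁻¹ := by rw [h2]; group
      _ = (y * t) * f * y⁻¹ := by rw [hft]; group
      _ = _ := by rw [hyt]; group
  have h3 : Psi B I u ∈ A := fr.U_le (Psi_mem_U B I (Psi_comm_t B I h1))
  have h4 : f ∈ A := by
    have h5 : f = y⁻¹ * Psi B I u * y⁻¹⁻¹ := by rw [hu]; group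
    rw [h5]
    exact conj_mem_of_mem_normalizer (inv_mem hyA) h3
  have h6 : f ∈ fr.U := by rw [← B.sit.UT]; exact ⟨hf, h4⟩
  obtain ⟨a, b, c, rfl⟩ := exists_of_mem_U B I h6
  exact ⟨_, rfl⟩

theorem lift {f : G} (hf : f ∈ T) (h : f * f ∈ (Psi B I).range) :
    ∃ u, ofRing (tau I.K.g) u = u ∧ (Psi B I u * f) * (Psi B I u * f) = 1 := by
  obtain ⟨w, hw⟩ := h
  have hft : f * t = t * f := B.hyp.isT.cent f hf
  have hfA := B.hyp.mem_normalizer hft
  have h1 : f * f ∈ fr.U := by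
    rw [← hw]
    apply Psi_mem_U
    apply Psi_comm_t
    rw [hw, mul_assoc, hft, ← mul_assoc, hft, mul_assoc]
  have hZ := B.hyp.hZ
  obtain ⟨v, hv, σ, -, h2⟩ := B.sit.had f hf
  have hgA : v * f ∈ normalizer (A : Set G) := mul_mem (le_normalizer (fr.U_le hv)) hfA
  have hnorm : ∀ x ∈ fr.U, f * x * f⁻¹ ∈ fr.U := by
    rcases h2 with h2 | h2
    · have h3 : OutL3Je.FT fr f σ := ⟨v, hv, h2⟩
      exact fun x hx => h3.norm hZ hx
    · have h3 : OutL3Je.GT fr f σ := ⟨v, hv, h2⟩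
      exact fun x hx => h3.norm hZ hx
  have hsq : (v * f) * (v * f) ∈ fr.U := by
    have h3 : (v * f) * (v * f) = v * (f * v * f⁻¹) * (f * f) := by group
    rw [h3]
    exact mul_mem (mul_mem hv (hnorm v hv)) h1
  have hone : (v * f) * (v * f) = 1 := by
    apply OutL3Inv.eq_one_of_centralizer hZ hsq
    apply OutL3Je.mem_centralizer_of_fld_one (fr := fr) (hA B) (mul_mem hgA hgA)
    rcases h2 with h2 | h2
    · have h3 : OutL3Je.FT fr f σ := ⟨v, hv, h2⟩
      have h4 := (h3.mul hZ h3).eq_of hZ (OutL3Je.FT.of_mem_U h1)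
      rw [← h4]
      exact h2.mul h2
    · have h3 : OutL3Je.GT fr f σ := ⟨v, hv, h2⟩
      have h4 := (h3.mul hZ h3).eq_of hZ (OutL3Je.FT.of_mem_U h1)
      rw [← h4]
      exact h2.mul h2
  obtain ⟨a, b, c, rfl⟩ := exists_of_mem_U B I hv
  exact ⟨_, ofRing_con _ _ _, hone⟩

include B in
theorem conj_T {X : Subgroup G} (hX : IsPGroup 2 X) (hXt : ∀ x ∈ X, x * t = t * x) :
    ∃ c, c * t = t * c ∧ ∀ x ∈ X, c * x * c⁻¹ ∈ T := by
  have h1 : IsSyl T (centralizer ({t} : Set G)) := by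
    apply B.hyp.isT.syl.mono
    · intro x hx
      exact mem_centralizer_singleton_iff.2 (B.hyp.isT.cent x hx)
    · intro x hx
      exact B.hyp.mem_normalizer (mem_centralizer_singleton_iff.1 hx)
  obtain ⟨c, hc, h2⟩ := h1.exists_conj hX (fun x hx => mem_centralizer_singleton_iff.2 (hXt x hx))
  exact ⟨c, mem_centralizer_singleton_iff.1 hc, h2⟩

section FieldCase

variable [Fact (∀ r : F, r ^ 2 ≠ I.K.g + 1 * r)]

theorem eq_of_mem_E_false {e : Heis (Q I.K.g)} (he : e ∈ E (tau I.K.g) false) :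
    ∃ r z : F, e = ⟨con r, 0, con z⟩ := by
  obtain ⟨a, b, c, rfl⟩ := ofRing_tau_eq (mem_E.1 he).2
  have h1 : (con b : Q I.K.g) = 0 := mem_V_false.1 (mem_E.1 he).1
  exact ⟨a, c, by rw [h1]⟩

theorem eq_of_mem_E_true {e : Heis (Q I.K.g)} (he : e ∈ E (tau I.K.g) true) :
    ∃ r z : F, e = ⟨0, con r, con z⟩ := by
  obtain ⟨a, b, c, rfl⟩ := ofRing_tau_eq (mem_E.1 he).2
  have h1 : (con a : Q I.K.g) = 0 := mem_V_true.1 (mem_E.1 he).1
  exact ⟨b, c, by rw [h1]⟩

theorem mem_E_false (r z : F) : (⟨con r, 0, con z⟩ : Heis (Q I.K.g)) ∈ E (tau I.K.g) false :=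
  mem_E.2 ⟨mem_V_false.2 rfl, ofRing_con r 0 z⟩

theorem mem_E_true (r z : F) : (⟨0, con r, con z⟩ : Heis (Q I.K.g)) ∈ E (tau I.K.g) true :=
  mem_E.2 ⟨mem_V_true.2 rfl, ofRing_con 0 r z⟩

theorem je {X : Subgroup G} (hX : X ≤ T) (h2 : ∀ x ∈ X, x * x = 1) (hc : 2 * Nat.card F ^ 2 ≤ Nat.card X) :
    ∃ j : Bool, ∀ x ∈ X, ∃ e ∈ E (tau I.K.g) j, x = Psi B I e ∨ x = t * Psi B I e := by
  rcases OutL3JeMain.je B.hyp.hZ (hA B) B.hyp.isT.syl.le B.sit.had B.sit.U_le B.hyp.htA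
    B.hyp.isT.uniq B.sit.four B.hyp.isT.mem B.sit.t_ne B.hyp.tt hX
    (fun x hx y hy => FrameL3.comm_of_sq h2 hx hy) h2 hc with h | h
  · refine ⟨false, fun x hx => ?_⟩
    obtain ⟨r, z, h3⟩ := (h x).1 hx
    refine ⟨_, mem_E_false B I r z, ?_⟩
    rw [Psi_one]
    exact h3
  · refine ⟨true, fun x hx => ?_⟩
    obtain ⟨r, z, h3⟩ := (h x).1 hx
    refine ⟨_, mem_E_true B I r z, ?_⟩
    rw [Psi_two']
    exact h3

theorem cent (j : Bool) {x : G} (hxt : x * t = t * x)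
    (h : ∀ e ∈ E (tau I.K.g) j, x * Psi B I e = Psi B I e * x) :
    ∃ o : G, ∃ a ∈ E (tau I.K.g) j, Odd (orderOf o) ∧ o * t = t * o ∧
      (∀ e ∈ V (K := Q I.K.g) j, o * Psi B I e = Psi B I e * o) ∧
      (x = o * Psi B I a ∨ x = o * (t * Psi B I a)) := by
  have hxA := B.hyp.mem_normalizer hxt
  cases j
  · obtain ⟨r, z, h1⟩ := OutL3Facts.exists_of_cent_one fr (hA B) hxA (fun r z => by
      have h2 := h _ (mem_E_false B I r z)
      rw [Psi_one] at h2
      rw [h2, mul_inv_cancel_right])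
    obtain ⟨o, ho, h3⟩ := cent_aux B (fr.U_le (OutL3Rel.u_mem fr r 0 z)) hxt h1
    refine ⟨o, _, mem_E_false B I r z, odd_core B ho, (B.hyp.mem_core.1 ho).2.1,
      fun e _ => core_comm B I ho e, ?_⟩
    rw [Psi_one]
    exact h3
  · obtain ⟨r, z, h1⟩ := OutL3Facts.exists_of_cent_two fr (hA B) hxA (fun r z => by
      have h2 := h _ (mem_E_true B I r z)
      rw [Psi_two'] at h2
      rw [h2, mul_inv_cancel_right])
    obtain ⟨o, ho, h3⟩ := cent_aux B (fr.U_le (OutL3Rel.u_mem fr 0 r z)) hxt h1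
    refine ⟨o, _, mem_E_true B I r z, odd_core B ho, (B.hyp.mem_core.1 ho).2.1,
      fun e _ => core_comm B I ho e, ?_⟩
    rw [Psi_two']
    exact h3

theorem triv {f : G} (hf : f ∈ T) (β : MulAut (Heis (Q I.K.g)))
    (h : ∀ u, f * Psi B I u * f⁻¹ = Psi B I (β u)) (ha : ∀ u, (β u).a = u.a) (hb : ∀ u, (β u).b = u.b) :
    ∃ a, ofRing (tau I.K.g) a = a ∧ (f = Psi B I a ∨ f = t * Psi B I a) := by
  have hft : f * t = t * f := B.hyp.isT.cent f hf
  have hfA := B.hyp.mem_normalizer hft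
  obtain ⟨v, hv, h1⟩ := OutL3Facts.exists_of_trivial fr B.hyp.hZ (hA B) hfA (by
    intro r s z
    have h2 := h ⟨con r, con s, con z⟩
    have h3 : Psi B I (β ⟨con r, con s, con z⟩) * t = t * Psi B I (β ⟨con r, con s, con z⟩) := by
      rw [← h2, Psi_u]
      have h4 := comm_t B (fr.U_le (OutL3Rel.u_mem fr r s z))
      have h5 : f⁻¹ * t = t * f⁻¹ := by
        rw [inv_mul_eq_iff_eq_mul, ← mul_assoc, hft, mul_inv_cancel_right]
      calc f * OutL3Rel.u fr r s z * f⁻¹ * t = f * OutL3Rel.u fr r s z * (f⁻¹ * t) := by group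
        _ = f * (OutL3Rel.u fr r s z * t) * f⁻¹ := by rw [h5]; group
        _ = (f * t) * OutL3Rel.u fr r s z * f⁻¹ := by rw [h4]; group
        _ = _ := by rw [hft]; group
    obtain ⟨a, b, c, h6⟩ := ofRing_tau_eq (Psi_comm_t B I h3)
    have h7 := ha ⟨con r, con s, con z⟩
    have h8 := hb ⟨con r, con s, con z⟩
    rw [h6] at h7 h8
    have h9 : a = r := con_inj h7
    have h10 : b = s := con_inj h8
    subst h9 h10
    refine ⟨c, ?_⟩
    rw [← Psi_u B I, h2, h6, Psi_u])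
  have hvT : v ∈ T := B.sit.U_le hv
  obtain ⟨a, b, c, hvp⟩ := exists_of_mem_U B I hv
  rcases B.hyp.R _ (mul_mem (inv_mem hvT) hf) h1 with h2 | h2
  · refine ⟨_, ofRing_con a b c, Or.inl ?_⟩
    rw [← hvp]
    exact (inv_mul_eq_one.1 h2).symm
  · refine ⟨_, ofRing_con a b c, Or.inr ?_⟩
    rw [← hvp, ← comm_t B (fr.U_le hv)]
    exact inv_mul_eq_iff_eq_mul.1 h2

/-- **The instance of `L3F.FC`.** -/
theorem fc : FC t T (Nat.card F) (Psi B I) (tau I.K.g) where
  inj := Psi_injective B I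
  tau_sq := tau_tau
  tau_ne := by
    intro h
    have h1 := congrArg (fun σ : RingAut (Q I.K.g) => σ (th I.K.g)) h
    have h2 : tau I.K.g (th I.K.g) = th I.K.g := h1
    rw [tau_th] at h2
    exact one_ne_zero' (add_eq_left.1 h2)
  card := card_q
  four_le := B.sit.four
  tt := B.hyp.tt
  act := t_Psi B I
  isT := B.hyp.isT.syl.two
  mem_T := B.hyp.isT.mem
  comm_T := B.hyp.isT.cent
  conj_T X hX hXt := conj_T B hX hXt
  norm := T_norm B I
  cent_mem x hx := B.sit.U_le (Psi_mem_U B I hx)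
  je X hX h2 hc := je B I hX h2 hc
  cent j x hxt h := cent B I j hxt h
  triv f hf β h ha hb _ := triv B I hf β h ha hb

/-- **The instance of `L3F.FE`.** -/
theorem fe : FE t T (Nat.card F) (Psi B I) (tau I.K.g) L where
  toFC := fc B I
  le_L := le_L B I
  fus y hy f hf h := fus B I hy hf h
  lift f hf h := by
    obtain ⟨u, hu, h1⟩ := lift B I hf h
    exact ⟨u, hu, Or.inl h1⟩

end FieldCase

/-- **The field case of part III.** -/
theorem main (h : ∀ c : F, c * c + c ≠ I.K.g) :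
    t ∉ L ∧ ∃ P : Sylow 2 G, (P : Subgroup G) ⊓ L = (Psi B I).range := by
  have : Fact (∀ r : F, r ^ 2 ≠ I.K.g + 1 * r) := ⟨fun r hr => h r (by
    rw [pow_two, one_mul] at hr
    rw [hr, add_assoc, CharTwo.add_self_eq_zero, add_zero])⟩
  have hn : L.Normal := B.sit.conf.normal
  have hs : IsSimpleGroup ↥L := B.sit.conf.simple
  have hL : _root_.commutator ↥L = ⊤ := by
    rcases (inferInstance : (_root_.commutator ↥L).Normal).eq_bot_or_eq_top with h1 | h1
    · exfalso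
      apply B.sit.conf.not_comm
      rw [_root_.commutator_def, Subgroup.commutator_eq_bot_iff_le_centralizer] at h1
      refine ⟨⟨fun a b => ?_⟩⟩
      exact (mem_centralizer_iff.1 (h1 (mem_top a)) b (mem_top b)).symm
    · exact h1
  exact (fe B I).main hL

end Cfsg.Agent.StdRank2.L3F.Inst
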