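import Cfsg.Agent.StdRank2.L3F.Def

/-!
# S1778, type `L3(q)`, part III, field case: the conjugates of `t` in `S`
-/

set_option autoImplicit false

namespace Cfsg.Agent.StdRank2.L3F

open Subgroup Cfsg.Agent.StdL3.Heis Cfsg.Agent.StdL3.HeisTwo

variable {K : Type*} [Field K] {G : Type*} [Group G]

namespace FC

variable {t : G} {T : Subgroup G} {q : ℕ} {i : Heis K →* G} {τ : RingAut K}

variable (h : FC t T q i τ)

include h

/-! ## conjugating into `T` -/

theorem bring {d g : G} (hd : g * t * g⁻¹ = d) (X : Subgroup G) (hX : IsPGroup 2 X)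
    (hc : ∀ x ∈ X, x * d = d * x) : ∃ g', g' * t * g'⁻¹ = d ∧ ∀ x ∈ X, g'⁻¹ * x * g' ∈ T := by
  obtain ⟨c, hct, hcT⟩ := h.conj_T (X.map (MulAut.conj g⁻¹).toMonoidHom) (hX.map _) (by
    rintro _ ⟨x, hx, rfl⟩
    show g⁻¹ * x * g⁻¹⁻¹ * t = t * (g⁻¹ * x * g⁻¹⁻¹)
    have h1 := hc x hx
    rw [← hd] at h1
    calc g⁻¹ * x * g⁻¹⁻¹ * t = g⁻¹ * (x * (g * t * g⁻¹)) * g := by group
      _ = g⁻¹ * ((g * t * g⁻¹) * x) * g := by rw [h1]
      _ = _ := by group)
  refine ⟨g * c⁻¹, ?_, ?_⟩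
  · rw [← hd]
    calc g * c⁻¹ * t * (g * c⁻¹)⁻¹ = g * (c⁻¹ * (t * c)) * g⁻¹ := by group
      _ = g * (c⁻¹ * (c * t)) * g⁻¹ := by rw [hct]
      _ = _ := by group
  · intro x hx
    have h2 := hcT _ (mem_map_of_mem (MulAut.conj g⁻¹).toMonoidHom hx)
    have e : c * (MulAut.conj g⁻¹).toMonoidHom x * c⁻¹ = (g * c⁻¹)⁻¹ * x * (g * c⁻¹) := by
      show c * (g⁻¹ * x * g⁻¹⁻¹) * c⁻¹ = _
      group
    rwa [e] at h2

theorem card_le_of [Finite G] [Finite K] {g' : G} {j : Bool} (X : Subgroup G)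
    (hX : ∀ x ∈ X, ∃ e ∈ E τ j, g'⁻¹ * x * g' = i e ∨ g'⁻¹ * x * g' = t * i e) [CharP K 2] :
    Nat.card X ≤ 2 * q ^ 2 := by
  classical
  have h1 : ∀ x : X, ∃ p : Bool × E τ j, g'⁻¹ * x * g' = (if p.1 then t else 1) * i p.2 := by
    rintro ⟨x, hx⟩
    obtain ⟨e, he, h2 | h2⟩ := hX x hx
    · exact ⟨(false, ⟨e, he⟩), by simpa using h2⟩
    · exact ⟨(true, ⟨e, he⟩), by simpa using h2⟩
  choose p hp using h1
  have h2 : Nat.card X ≤ Nat.card (Bool × E τ j) := by
    apply Nat.card_le_card_of_injective p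
    intro x y hxy
    have h3 := hp x
    rw [hxy, ← hp y] at h3
    exact Subtype.ext (mul_left_cancel (mul_right_cancel h3))
  rw [Nat.card_prod, h.card_E] at h2
  simpa using h2

theorem bring_je [Finite G] [Finite K] [CharP K 2] {d g : G} (hd : g * t * g⁻¹ = d) (X : Subgroup G)
    (hX : ∀ x ∈ X, x * x = 1) (hc : ∀ x ∈ X, x * d = d * x) (hcard : 2 * q ^ 2 ≤ Nat.card X) :
    ∃ (g' : G) (j : Bool), g' * t * g'⁻¹ = d ∧
      (∀ x ∈ X, ∃ e ∈ E τ j, g'⁻¹ * x * g' = i e ∨ g'⁻¹ * x * g' = t * i e) ∧ Nat.card X ≤ 2 * q ^ 2 := by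
  have hX2 : IsPGroup 2 X := by
    rintro ⟨x, hx⟩
    refine ⟨1, Subtype.ext ?_⟩
    show x ^ 2 ^ 1 = 1
    rw [pow_one, pow_two, hX x hx]
  obtain ⟨g', hg', hT⟩ := h.bring hd X hX2 hc
  have hinj : Function.Injective (MulAut.conj g'⁻¹).toMonoidHom := (MulAut.conj g'⁻¹).injective
  obtain ⟨j, hj⟩ := h.je (X.map (MulAut.conj g'⁻¹).toMonoidHom) (by
    rintro _ ⟨x, hx, rfl⟩
    have h1 := hT x hx
    have e : (MulAut.conj g'⁻¹).toMonoidHom x = g'⁻¹ * x * g' := by
      show g'⁻¹ * x * g'⁻¹⁻¹ = _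
      rw [inv_inv]
    rw [e]; exact h1) (by
    rintro _ ⟨x, hx, rfl⟩
    rw [← map_mul, hX x hx, map_one]) (by
    rw [card_map_of_injective hinj]; exact hcard)
  have h2 : ∀ x ∈ X, ∃ e ∈ E τ j, g'⁻¹ * x * g' = i e ∨ g'⁻¹ * x * g' = t * i e := by
    intro x hx
    obtain ⟨e, he, h3⟩ := hj _ (mem_map_of_mem (MulAut.conj g'⁻¹).toMonoidHom hx)
    have e' : (MulAut.conj g'⁻¹).toMonoidHom x = g'⁻¹ * x * g' := by
      show g'⁻¹ * x * g'⁻¹⁻¹ = _
      rw [inv_inv]
    rw [e'] at h3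
    exact ⟨e, he, h3⟩
  exact ⟨g', j, hg', h2, h.card_le_of X h2⟩

theorem sq_conj (g : G) : (g * t * g⁻¹) * (g * t * g⁻¹) = 1 := by
  calc (g * t * g⁻¹) * (g * t * g⁻¹) = g * (t * t) * g⁻¹ := by group
    _ = 1 := by rw [h.tt]; group

/-- no conjugate of `t` lies in `Û` -/
theorem not_range [Finite G] [Finite K] [CharP K 2] (g : G) (x : Heis K) : g * t * g⁻¹ ≠ i x := by
  intro h1
  have h2 : x * x = 1 := by
    apply h.inj
    rw [map_mul, ← h1, map_one]
    exact h.sq_conj g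
  obtain ⟨j, hj⟩ := exists_V h2
  have hcard : Nat.card ((V (K := K) j).map i) = (q ^ 2) ^ 2 := by
    rw [card_map_of_injective h.inj, card_V, h.card]
  have hlt : 2 * q ^ 2 < (q ^ 2) ^ 2 := by
    have hq := h.four_le
    have h5 : 2 < q ^ 2 := by nlinarith
    rw [sq (q ^ 2)]
    exact Nat.mul_lt_mul_of_pos_right h5 (by omega)
  obtain ⟨g', j', -, -, h3⟩ := h.bring_je h1 ((V j).map i) (by
    rintro _ ⟨v, hv, rfl⟩
    rw [← map_mul, V_sq hv, map_one]) (by
    rintro _ ⟨v, hv, rfl⟩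
    rw [← map_mul, V_comm hv hj, map_mul]) (by
    rw [hcard]; exact hlt.le)
  rw [hcard] at h3
  omega

/-! ## the map `ψ` -/

variable [CharP K 2]

/-- field part and sign -/
noncomputable def psi : ↥h.S →* RingAut K × ℤˣ := (sig.comp h.r).prod (eps.comp h.r)

theorem psi_eq_one {x : h.S} : h.psi x = 1 ↔ ∃ u, (x : G) = i u := by
  constructor
  · intro h1
    have h2 : sig (h.r x) = 1 := congrArg Prod.fst h1
    have h3 : eps (h.r x) = 1 := congrArg Prod.snd h1
    exact h.mem_range_of x.2 h2 (eps_eq_one.1 h3)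
  · rintro ⟨u, hu⟩
    have e : x = ⟨i u, h.i_mem u⟩ := Subtype.ext hu
    apply Prod.ext
    · show sig (h.r x) = 1
      rw [e, h.sig_i]
    · show eps (h.r x) = 1
      rw [e]
      exact eps_eq_one.2 (h.pres_i u)

theorem psi_comm [Finite K] (x y : h.S) : h.psi (x * y) = h.psi (y * x) := by
  rw [map_mul, map_mul]
  apply Prod.ext
  · exact OutField.comm _ _
  · exact mul_comm _ _

theorem card_of_cover [Finite G] {C : Subgroup G} (hC : C ≤ h.S) (hcov : ∀ s ∈ h.S, ∃ u, i u * s ∈ C)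
    {F : Subgroup (Heis K)} (hF : ∀ u, u ∈ F ↔ i u ∈ C) : Nat.card C = Nat.card F * Nat.card h.psi.range := by
  set f : C →* RingAut K × ℤˣ := h.psi.comp (inclusion hC) with hf
  have h1 := Subgroup.card_mul_index f.ker
  rw [Subgroup.index_ker] at h1
  rw [← h1]
  congr 1
  · symm
    refine Nat.card_congr (Equiv.ofBijective (fun u : F => ⟨⟨i u.1, (hF _).1 u.2⟩, ?_⟩) ⟨?_, ?_⟩)
    · rw [MonoidHom.mem_ker]
      exact h.psi_eq_one.2 ⟨u.1, rfl⟩
    · intro u v huv
      apply Subtype.ext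
      apply h.inj
      exact congrArg (fun w => (w.1.1 : G)) huv
    · rintro ⟨⟨x, hx⟩, hx'⟩
      obtain ⟨u, hu⟩ := h.psi_eq_one.1 (MonoidHom.mem_ker.1 hx')
      have hu' : x = i u := hu
      exact ⟨⟨u, (hF u).2 (hu' ▸ hx)⟩, Subtype.ext (Subtype.ext hu'.symm)⟩
  · have : f.range = h.psi.range := by
      ext y
      constructor
      · rintro ⟨x, rfl⟩
        exact ⟨_, rfl⟩
      · rintro ⟨⟨s, hs⟩, rfl⟩
        obtain ⟨u, hu⟩ := hcov s hs
        refine ⟨⟨i u * s, hu⟩, ?_⟩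
        have e : inclusion hC ⟨i u * s, hu⟩ = ⟨i u, h.i_mem u⟩ * ⟨s, hs⟩ := rfl
        show h.psi (inclusion hC ⟨i u * s, hu⟩) = _
        rw [e, map_mul, h.psi_eq_one.2 ⟨u, rfl⟩, one_mul]
    rw [this]

theorem card_T [Finite G] [Finite K] : Nat.card T = q ^ 3 * Nat.card h.psi.range := by
  rw [h.card_of_cover h.T_le (F := fixAll (ofRing τ)), h.card_fixAll]
  · intro s hs
    obtain ⟨u, f, hf, rfl⟩ := h.mem_S.1 hs
    refine ⟨u⁻¹, ?_⟩
    rw [map_inv, inv_mul_cancel_left]; exact hf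
  · intro u
    rw [mem_fixAll]
    constructor
    · exact h.cent_mem u
    · intro h1
      apply h.inj
      rw [← h.act, ← h.comm_T _ h1, mul_inv_cancel_right]

/-- a conjugate of `t` with nontrivial field part: its centraliser in `S` is a conjugate of `T` -/
theorem exists_conj_T [Finite G] [Finite K] {d g : G} (hd : g * t * g⁻¹ = d) (hS : d ∈ h.S)
    (hs : sig (h.r ⟨d, hS⟩) ≠ 1) :
    ∃ g', g' * t * g'⁻¹ = d ∧ ∀ y ∈ T, g' * y * g'⁻¹ ∈ h.S := by
  have hdd : d * d = 1 := by rw [← hd]; exact h.sq_conj g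
  have hdi : d⁻¹ = d := inv_eq_of_mul_eq_one_right hdd
  set α := h.r ⟨d, hS⟩ with hα
  have hr : ∀ u, d * i u * d⁻¹ = i (α u) := fun u => h.r_spec ⟨d, hS⟩ u
  have hαα : α * α = 1 := by
    rw [hα, ← map_mul]
    have : (⟨d, hS⟩ : h.S) * ⟨d, hS⟩ = 1 := Subtype.ext hdd
    rw [this, map_one]
  set C : Subgroup G := h.S ⊓ centralizer ({d} : Set G) with hC
  have hCS : C ≤ h.S := inf_le_left
  have hcov : ∀ s ∈ h.S, ∃ u, i u * s ∈ C := by
    intro s hsS
    have h1 : h.psi (⟨d, hS⟩⁻¹ * (⟨s, hsS⟩ * ⟨d, hS⟩ * ⟨s, hsS⟩⁻¹)) = 1 := by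
      have e1 : h.psi (⟨s, hsS⟩ * ⟨d, hS⟩ * ⟨s, hsS⟩⁻¹) = h.psi ⟨d, hS⟩ := by
        rw [h.psi_comm, inv_mul_cancel_left]
      rw [map_mul, e1, map_inv, inv_mul_cancel]
    obtain ⟨x, hx⟩ := h.psi_eq_one.1 h1
    have hx' : d⁻¹ * (s * d * s⁻¹) = i x := hx
    have hx2 : s * d * s⁻¹ = d * i x := by rw [← hx']; group
    have h2 : α x * x = 1 := by
      apply h.inj
      rw [map_mul, map_one, ← hr]
      have h3 : (s * d * s⁻¹) * (s * d * s⁻¹) = 1 := by
        calc (s * d * s⁻¹) * (s * d * s⁻¹) = s * (d * d) * s⁻¹ := by group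
          _ = 1 := by rw [hdd]; group
      rw [hx2] at h3
      rw [hdi, ← h3]; group
    obtain ⟨v, hv⟩ := exists_conj hαα hs h2
    have h4 : s * d * s⁻¹ = i v * d * (i v)⁻¹ := by
      rw [hx2, ← hv, map_mul, ← hr, map_inv, hdi]
      calc d * (d * i v * d * (i v)⁻¹) = (d * d) * i v * d * (i v)⁻¹ := by group
        _ = _ := by rw [hdd, one_mul]
    refine ⟨v⁻¹, ?_⟩
    rw [hC, mem_inf, mem_centralizer_singleton_iff]
    refine ⟨mul_mem (h.i_mem _) hsS, ?_⟩
    rw [map_inv]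
    calc (i v)⁻¹ * s * d = (i v)⁻¹ * (s * d * s⁻¹) * s := by group
      _ = (i v)⁻¹ * (i v * d * (i v)⁻¹) * s := by rw [h4]
      _ = d * ((i v)⁻¹ * s) := by group
  have hcard : Nat.card C = Nat.card (fixAll α) * Nat.card h.psi.range := by
    apply h.card_of_cover hCS hcov
    intro u
    rw [mem_fixAll, hC, mem_inf, mem_centralizer_singleton_iff]
    constructor
    · intro h1
      refine ⟨h.i_mem u, ?_⟩
      have h2 := hr u
      rw [h1] at h2
      calc i u * d = (d * i u * d⁻¹) * d := by rw [h2]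
        _ = d * i u := by group
    · rintro ⟨-, h2⟩
      apply h.inj
      rw [← hr, ← h2, mul_inv_cancel_right]
  have hle : Nat.card T ≤ Nat.card C := by
    rw [h.card_T, hcard]
    exact Nat.mul_le_mul_right _ (L3F.card_fixAll hαα hs h.card).2
  obtain ⟨g', hg', hT⟩ := h.bring hd C (h.isS.to_le hCS) (fun x hx => by
    rw [hC, mem_inf, mem_centralizer_singleton_iff] at hx
    exact hx.2)
  refine ⟨g', hg', ?_⟩
  have hinj : Function.Injective (fun x : C => (⟨g'⁻¹ * x * g', hT x x.2⟩ : T)) := by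
    intro x y hxy
    have := congrArg Subtype.val hxy
    exact Subtype.ext (mul_left_cancel (mul_right_cancel this))
  have hsurj : Function.Surjective (fun x : C => (⟨g'⁻¹ * x * g', hT x x.2⟩ : T)) := by
    have h5 : Nat.card C = Nat.card T := le_antisymm (Nat.card_le_card_of_injective _ hinj) hle
    exact ((Nat.bijective_iff_injective_and_card _).2 ⟨hinj, h5⟩).2
  intro y hy
  obtain ⟨x, hx⟩ := hsurj ⟨y, hy⟩
  have hx' : g'⁻¹ * x * g' = y := congrArg Subtype.val hx
  rw [← hx']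
  have e : g' * (g'⁻¹ * (x : G) * g') * g'⁻¹ = x := by group
  rw [e]
  exact hCS x.2

/-- `⟨t⟩ E_j` -/
def FE (j : Bool) : Subgroup G where
  carrier := {y | ∃ e ∈ E τ j, y = i e ∨ y = t * i e}
  one_mem' := ⟨1, one_mem _, Or.inl (map_one i).symm⟩
  mul_mem' := by
    rintro x y ⟨e, he, h1⟩ ⟨e', he', h2⟩
    have hc : i e * t = t * i e := by
      have h3 := h.act e
      rw [(mem_E.1 he).2] at h3
      calc i e * t = (t * i e * t⁻¹) * t := by rw [h3]
        _ = _ := by group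
    rcases h1 with rfl | rfl <;> rcases h2 with rfl | rfl
    · exact ⟨e * e', mul_mem he he', Or.inl (map_mul i _ _).symm⟩
    · refine ⟨e * e', mul_mem he he', Or.inr ?_⟩
      rw [map_mul, ← mul_assoc, hc, mul_assoc]
    · refine ⟨e * e', mul_mem he he', Or.inr ?_⟩
      rw [map_mul, mul_assoc]
    · refine ⟨e * e', mul_mem he he', Or.inl ?_⟩
      rw [map_mul]
      calc t * i e * (t * i e') = t * (i e * t) * i e' := by group
        _ = (t * t) * i e * i e' := by rw [hc]; group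
        _ = _ := by rw [h.tt, one_mul]
  inv_mem' := by
    rintro x ⟨e, he, h1⟩
    have hc : i e * t = t * i e := by
      have h3 := h.act e
      rw [(mem_E.1 he).2] at h3
      calc i e * t = (t * i e * t⁻¹) * t := by rw [h3]
        _ = _ := by group
    rcases h1 with rfl | rfl
    · exact ⟨e⁻¹, inv_mem he, Or.inl (map_inv i _).symm⟩
    · refine ⟨e⁻¹, inv_mem he, Or.inr ?_⟩
      rw [← hc, mul_inv_rev, map_inv, h.t_inv]

theorem mem_FE {j : Bool} {y : G} : y ∈ h.FE j ↔ ∃ e ∈ E τ j, y = i e ∨ y = t * i e := Iff.rfl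

theorem FE_le (j : Bool) : h.FE j ≤ T := by
  rintro y ⟨e, he, rfl | rfl⟩
  · exact h.cent_mem e (mem_E.1 he).2
  · exact mul_mem h.mem_T (h.cent_mem e (mem_E.1 he).2)

theorem FE_sq {j : Bool} {y : G} (hy : y ∈ h.FE j) : y * y = 1 := by
  have hc := fun (e : Heis K) (he : e ∈ E τ j) => h.comm_T (i e) (h.cent_mem e (mem_E.1 he).2)
  obtain ⟨e, he, rfl | rfl⟩ := hy
  · rw [← map_mul, V_sq (mem_E.1 he).1, map_one]
  · calc t * i e * (t * i e) = t * (i e * t) * i e := by group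
      _ = (t * t) * (i e * i e) := by rw [hc e he]; group
      _ = 1 := by rw [h.tt, ← map_mul, V_sq (mem_E.1 he).1, map_one, one_mul]

theorem card_FE [Finite G] [Finite K] (j : Bool) : 2 * q ^ 2 ≤ Nat.card (h.FE j) := by
  classical
  have h1 : Nat.card (Bool × E τ j) ≤ Nat.card (h.FE j) := by
    apply Nat.card_le_card_of_injective (fun p : Bool × E τ j => (⟨(if p.1 then t else 1) * i p.2, by
      obtain ⟨b, e⟩ := p
      cases b
      · exact ⟨e, e.2, Or.inl (by simp)⟩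
      · exact ⟨e, e.2, Or.inr (by simp)⟩⟩ : h.FE j))
    rintro ⟨b, e⟩ ⟨b', e'⟩ hh
    have h2 := congrArg Subtype.val hh
    cases b <;> cases b' <;> simp only [if_true, one_mul, Bool.false_eq_true, if_false] at h2
    · rw [Subtype.ext (h.inj h2)]
    · exfalso
      apply h.t_not_range (e.1 * e'.1⁻¹)
      rw [map_mul, map_inv, h2, mul_inv_cancel_right]
    · exfalso
      apply h.t_not_range (e'.1 * e.1⁻¹)
      rw [map_mul, map_inv, ← h2, mul_inv_cancel_right]
    · rw [Subtype.ext (h.inj (mul_left_cancel h2))]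
  rw [Nat.card_prod, h.card_E] at h1
  simpa using h1

/-- **Case C** : no conjugate of `t` in `S` swaps `V₁`, `V₂` and has a nontrivial field part. -/
theorem case_c [Finite G] [Finite K] {d g : G} (hd : g * t * g⁻¹ = d) (hS : d ∈ h.S)
    (hs : sig (h.r ⟨d, hS⟩) ≠ 1) (hsw : Swp (h.r ⟨d, hS⟩)) : False := by
  classical
  have hdd : d * d = 1 := by rw [← hd]; exact h.sq_conj g
  set α := h.r ⟨d, hS⟩ with hα
  have hr : ∀ u, d * i u * d⁻¹ = i (α u) := fun u => h.r_spec ⟨d, hS⟩ u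
  have hαα : α * α = 1 := by
    rw [hα, ← map_mul]
    have : (⟨d, hS⟩ : h.S) * ⟨d, hS⟩ = 1 := Subtype.ext hdd
    rw [this, map_one]
  obtain ⟨g', hg', hT⟩ := h.exists_conj_T hd hS hs
  set X : Subgroup G := (h.FE false).map (MulAut.conj g').toMonoidHom with hX
  have hXmem : ∀ x ∈ X, ∃ y ∈ h.FE false, x = g' * y * g'⁻¹ := by
    rintro _ ⟨y, hy, rfl⟩
    exact ⟨y, hy, rfl⟩
  have hXS : X ≤ h.S := by
    intro x hx
    obtain ⟨y, hy, rfl⟩ := hXmem x hx
    exact hT y (h.FE_le false hy)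
  have hXsq : ∀ x ∈ X, x * x = 1 := by
    intro x hx
    obtain ⟨y, hy, rfl⟩ := hXmem x hx
    calc g' * y * g'⁻¹ * (g' * y * g'⁻¹) = g' * (y * y) * g'⁻¹ := by group
      _ = 1 := by rw [h.FE_sq hy]; group
  have hXd : ∀ x ∈ X, x * d = d * x := by
    intro x hx
    obtain ⟨y, hy, rfl⟩ := hXmem x hx
    rw [← hg']
    calc g' * y * g'⁻¹ * (g' * t * g'⁻¹) = g' * (y * t) * g'⁻¹ := by group
      _ = g' * (t * y) * g'⁻¹ := by rw [h.comm_T y (h.FE_le false hy)]
      _ = _ := by group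
  have hXcard : 2 * q ^ 2 ≤ Nat.card X := by
    rw [hX, card_map_of_injective (MulAut.conj g').injective]
    exact h.card_FE false
  set f : X →* RingAut K × ℤˣ := h.psi.comp (inclusion hXS) with hf
  have h1 := Subgroup.card_mul_index f.ker
  rw [Subgroup.index_ker] at h1
  have h2 : Nat.card f.range ≤ 4 := by
    have h3 : Nat.card f.range ≤ Nat.card (Bool × Bool) := by
      have hval : ∀ y : f.range, (y.1.1 = 1 ∨ y.1.1 = τ) ∧ (y.1.2 = 1 ∨ y.1.2 = -1) := by
        rintro ⟨_, x, rfl⟩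
        have h4 : f x * f x = 1 := by
          rw [← map_mul]
          have : x * x = 1 := Subtype.ext (hXsq x x.2)
          rw [this, map_one]
        refine ⟨?_, Int.units_eq_one_or _⟩
        by_cases h5 : (f x).1 = 1
        · exact Or.inl h5
        · exact Or.inr (OutField.unique_invol (congrArg Prod.fst h4) h.tau_sq h5 h.tau_ne)
      apply Nat.card_le_card_of_injective (fun y : f.range => (decide (y.1.1 = 1), decide (y.1.2 = 1)))
      intro y y' hyy
      rw [Prod.mk.injEq, decide_eq_decide, decide_eq_decide] at hyy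
      obtain ⟨h6, h7⟩ := hval y
      obtain ⟨h8, h9⟩ := hval y'
      apply Subtype.ext
      apply Prod.ext
      · by_cases h10 : y.1.1 = 1
        · rw [h10, hyy.1.1 h10]
        · have h11 : y'.1.1 ≠ 1 := fun h12 => h10 (hyy.1.2 h12)
          rw [h6.resolve_left h10, h8.resolve_left h11]
      · by_cases h10 : y.1.2 = 1
        · rw [h10, hyy.2.1 h10]
        · have h11 : y'.1.2 ≠ 1 := fun h12 => h10 (hyy.2.2 h12)
          rw [h7.resolve_left h10, h9.resolve_left h11]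
    simpa [Nat.card_prod] using h3
  have h3 : Nat.card f.ker ≤ q := by
    rw [← (L3F.card_fixAll hαα hs h.card).1]
    have h4 : ∀ x : f.ker, ∃ c : fixJ α, (x.1.1 : G) = i (z c.1) := by
      rintro ⟨⟨x, hx⟩, hx'⟩
      obtain ⟨u, hu⟩ := h.psi_eq_one.1 (MonoidHom.mem_ker.1 hx')
      have hu' : x = i u := hu
      have hu2 : u * u = 1 := by
        apply h.inj
        rw [map_mul, ← hu', hXsq x hx, map_one]
      have hfix : α u = u := by
        apply h.inj
        rw [← hr, ← hu', ← hXd x hx, mul_inv_cancel_right]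
      obtain ⟨c, rfl⟩ := mem_J_iff_exists.1 (hsw.mem_J hu2 hfix)
      exact ⟨⟨c, mem_fixJ_iff.2 hfix⟩, hu'⟩
    choose c hc using h4
    apply Nat.card_le_card_of_injective c
    intro x y hxy
    apply Subtype.ext
    apply Subtype.ext
    rw [hc x, hxy, ← hc y]
  have hq := h.four_le
  have h4 : Nat.card X ≤ q * 4 := by
    rw [← h1]
    exact Nat.mul_le_mul h3 h2
  nlinarith

/-- **Case D** : no conjugate of `t` in `S` swaps `V₁`, `V₂` and has a trivial field part. -/
theorem case_d [Finite G] [Finite K] {d g : G} (hd : g * t * g⁻¹ = d) (hS : d ∈ h.S)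
    (hs : sig (h.r ⟨d, hS⟩) = 1) (hsw : Swp (h.r ⟨d, hS⟩)) : False := by
  classical
  have hdd : d * d = 1 := by rw [← hd]; exact h.sq_conj g
  have hdi : d⁻¹ = d := inv_eq_of_mul_eq_one_right hdd
  set α := h.r ⟨d, hS⟩ with hα
  have hr : ∀ u, d * i u * d⁻¹ = i (α u) := fun u => h.r_spec ⟨d, hS⟩ u
  have hαα : α * α = 1 := by
    rw [hα, ← map_mul]
    have : (⟨d, hS⟩ : h.S) * ⟨d, hS⟩ = 1 := Subtype.ext hdd
    rw [this, map_one]
  obtain ⟨m, n, hmn, hαa, hαb, hαc⟩ := hsw.of_sig_one hαα hs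
  have hm : m ≠ 0 := left_ne_zero_of_mul_eq_one hmn
  have hdz : ∀ c, i (z c) * d = d * i (z c) := by
    intro c
    have h1 := hr (z c)
    rw [map_z, hαc] at h1
    calc i (z c) * d = (d * i (z c) * d⁻¹) * d := by rw [h1]
      _ = _ := by group
  -- the group `J⟨d⟩`
  let X : Subgroup G :=
    { carrier := {y | ∃ c, y = i (z c) ∨ y = d * i (z c)}
      one_mem' := ⟨0, Or.inl (by rw [z_zero, map_one])⟩
      mul_mem' := by
        rintro x y ⟨c, h1⟩ ⟨c', h2⟩
        have h3 : i (z c) * i (z c') = i (z (c + c')) := by rw [← map_mul, z_mul]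
        rcases h1 with rfl | rfl <;> rcases h2 with rfl | rfl
        · exact ⟨c + c', Or.inl h3⟩
        · exact ⟨c + c', Or.inr (by rw [← mul_assoc, hdz, mul_assoc, h3])⟩
        · exact ⟨c + c', Or.inr (by rw [mul_assoc, h3])⟩
        · refine ⟨c + c', Or.inl ?_⟩
          calc d * i (z c) * (d * i (z c')) = d * (i (z c) * d) * i (z c') := by group
            _ = (d * d) * (i (z c) * i (z c')) := by rw [hdz]; group
            _ = _ := by rw [hdd, one_mul, h3]
      inv_mem' := by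
        rintro x ⟨c, h1⟩
        rcases h1 with rfl | rfl
        · exact ⟨-c, Or.inl (by rw [← map_inv, z_inv])⟩
        · refine ⟨-c, Or.inr ?_⟩
          rw [← hdz, mul_inv_rev, ← map_inv, z_inv, hdi] }
  have hXmem : ∀ {x : G}, x ∈ X ↔ ∃ c, x = i (z c) ∨ x = d * i (z c) := fun {x} => Iff.rfl
  have hXd : ∀ x ∈ X, x * d = d * x := by
    rintro x ⟨c, rfl | rfl⟩
    · exact hdz c
    · rw [mul_assoc, hdz]
  have hXsq : ∀ x ∈ X, x * x = 1 := by
    rintro x ⟨c, rfl | rfl⟩
    · rw [← map_mul, z_sq, map_one]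
    · calc d * i (z c) * (d * i (z c)) = d * (i (z c) * d) * i (z c) := by group
        _ = (d * d) * (i (z c) * i (z c)) := by rw [hdz]; group
        _ = 1 := by rw [hdd, ← map_mul, z_sq, map_one, one_mul]
  have hdnot : ∀ u, d ≠ i u := fun u => hd ▸ h.not_range g u
  have hXcard : 2 * q ^ 2 ≤ Nat.card X := by
    have h1 : Nat.card (Bool × K) ≤ Nat.card X := by
      apply Nat.card_le_card_of_injective (fun p : Bool × K => (⟨(if p.1 then d else 1) * i (z p.2), by
        obtain ⟨b, c⟩ := p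
        cases b
        · exact ⟨c, Or.inl (by simp)⟩
        · exact ⟨c, Or.inr (by simp)⟩⟩ : X))
      rintro ⟨b, e⟩ ⟨b', e'⟩ hh
      have h2 := congrArg Subtype.val hh
      cases b <;> cases b' <;> simp only [if_true, one_mul, Bool.false_eq_true, if_false] at h2
      · rw [z_inj (h.inj h2)]
      · exfalso
        apply hdnot (z e * (z e')⁻¹)
        rw [map_mul, map_inv, h2, mul_inv_cancel_right]
      · exfalso
        apply hdnot (z e' * (z e)⁻¹)
        rw [map_mul, map_inv, ← h2, mul_inv_cancel_right]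
      · rw [z_inj (h.inj (mul_left_cancel h2))]
    rw [Nat.card_prod, h.card] at h1
    simpa using h1
  obtain ⟨g', j, hg', hX, -⟩ := h.bring_je hd X hXsq hXd hXcard
  -- `J` is mapped onto `E j`
  have hJ : ∀ c, ∃ e : E τ j, g'⁻¹ * i (z c) * g' = i e := by
    intro c
    obtain ⟨e, he, h1 | h1⟩ := hX (i (z c)) ⟨c, Or.inl rfl⟩
    · exact ⟨⟨e, he⟩, h1⟩
    · exfalso
      have h2 : (t * i e) * (t * i e) = 1 := by
        rw [← h1]
        calc g'⁻¹ * i (z c) * g' * (g'⁻¹ * i (z c) * g') = g'⁻¹ * (i (z c) * i (z c)) * g' := by group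
          _ = 1 := by rw [← map_mul, z_sq, map_one]; group
      obtain ⟨v, hv⟩ := h.conj_of h2
      apply h.not_range (g' * i v) (z c)
      calc g' * i v * t * (g' * i v)⁻¹ = g' * (i v * t * (i v)⁻¹) * g'⁻¹ := by group
        _ = g' * (g'⁻¹ * i (z c) * g') * g'⁻¹ := by rw [← hv, ← h1]
        _ = i (z c) := by group
  choose ej hej using hJ
  have hejs : Function.Surjective ej := by
    have hinj : Function.Injective ej := by
      intro c c' hcc
      have h1 := hej c
      rw [hcc, ← hej c'] at h1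
      exact z_inj (h.inj (mul_left_cancel (mul_right_cancel h1)))
    exact ((Nat.bijective_iff_injective_and_card _).2 ⟨hinj, by rw [h.card, h.card_E]⟩).2
  -- the elements centralising `d` modulo `J`
  have key : ∀ b : K, b ≠ 0 → ∃ v ∈ V (K := K) j, g'⁻¹ * i ⟨m * b, b, 0⟩ * g' = t * i v := by
    intro b hb
    set u : Heis K := ⟨m * b, b, 0⟩ with hu
    set x' : G := g'⁻¹ * i u * g' with hx'
    have hαu : α u * u⁻¹ ∈ J K := by
      rw [mem_J, mul_a, mul_b, hαa, hαb, inv_a, inv_b]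
      constructor
      · rw [hu]; ring
      · rw [hu]
        linear_combination b * hmn
    obtain ⟨c', hc'⟩ := mem_J_iff_exists.1 hαu
    -- `x'` centralises `E j`
    have hxE : ∀ e ∈ E τ j, x' * i e = i e * x' := by
      intro e he
      obtain ⟨c, hc⟩ := hejs ⟨e, he⟩
      have h1 := hej c
      rw [hc] at h1
      rw [← h1, hx']
      calc g'⁻¹ * i u * g' * (g'⁻¹ * i (z c) * g') = g'⁻¹ * (i u * i (z c)) * g' := by group
        _ = g'⁻¹ * (i (z c) * i u) * g' := by rw [← map_mul, ← map_mul, z_comm]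
        _ = _ := by group
    -- the commutator with `t`
    have hxt : x' * t * x'⁻¹ = t * i (ej c') := by
      have h1 : i u * d * (i u)⁻¹ = d * i (z c') := by
        rw [← hc', map_mul, ← hr, map_inv, hdi]
        calc i u * d * (i u)⁻¹ = 1 * i u * d * (i u)⁻¹ := by rw [one_mul]
          _ = (d * d) * i u * d * (i u)⁻¹ := by rw [hdd]
          _ = _ := by group
      have h2 : t = g'⁻¹ * d * g' := by rw [← hg']; group
      rw [← hej c', hx']
      conv_lhs => rw [h2]
      conv_rhs => rw [h2]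
      calc g'⁻¹ * i u * g' * (g'⁻¹ * d * g') * (g'⁻¹ * i u * g')⁻¹ = g'⁻¹ * (i u * d * (i u)⁻¹) * g' := by group
        _ = g'⁻¹ * (d * i (z c')) * g' := by rw [h1]
        _ = _ := by group
    -- an element of `V j` with the same commutator
    have hw : ∃ w ∈ V (K := K) j, ofRing τ w * w⁻¹ = ej c' := by
      obtain ⟨r, hr1⟩ := OutField.exists_trace h.tau_sq h.tau_ne (map_one τ)
      have h0 := (ej c').2
      rw [mem_E, ofRing_eq_iff] at h0
      obtain ⟨h1, h2, h3, h4⟩ := h0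
      have hsum : ∀ y : K, τ y = y → τ (r * y) + -(r * y) = y := by
        intro y hy
        rw [map_mul, hy]
        have e : τ r * y + -(r * y) = (r + τ r) * y - 2 * (r * y) := by ring
        rw [e, hr1, one_mul, CharTwo.two_eq_zero, zero_mul, sub_zero]
      cases j
      · have hb0 := mem_V_false.1 h1
        refine ⟨⟨r * (ej c').1.a, 0, r * (ej c').1.c⟩, mem_V_false.2 rfl, ?_⟩
        ext
        · rw [mul_a, inv_a, ofRing_apply]; exact hsum _ h2
        · rw [mul_b, inv_b, ofRing_apply, hb0]; simp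
        · rw [mul_c, inv_c, inv_b, ofRing_apply]
          simp only [neg_zero, mul_zero, add_zero]
          exact hsum _ h4
      · have ha0 := mem_V_true.1 h1
        refine ⟨⟨0, r * (ej c').1.b, r * (ej c').1.c⟩, mem_V_true.2 rfl, ?_⟩
        ext
        · rw [mul_a, inv_a, ofRing_apply, ha0]; simp
        · rw [mul_b, inv_b, ofRing_apply]; exact hsum _ h3
        · rw [mul_c, inv_c, inv_b, ofRing_apply]
          simp only [map_zero, zero_mul, add_zero]
          exact hsum _ h4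
    obtain ⟨w, hwV, hw⟩ := hw
    have hwt : i w * t * (i w)⁻¹ = t * i (ej c') := by
      rw [← hw, map_mul, ← h.act, map_inv, h.t_inv]
      calc i w * t * (i w)⁻¹ = 1 * i w * t * (i w)⁻¹ := by rw [one_mul]
        _ = (t * t) * i w * t * (i w)⁻¹ := by rw [h.tt]
        _ = _ := by group
    have hcomm : ((i w)⁻¹ * x') * t = t * ((i w)⁻¹ * x') := by
      have h1 : x' * t * x'⁻¹ = i w * t * (i w)⁻¹ := hxt.trans hwt.symm
      calc ((i w)⁻¹ * x') * t = (i w)⁻¹ * (x' * t * x'⁻¹) * x' := by group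
        _ = (i w)⁻¹ * (i w * t * (i w)⁻¹) * x' := by rw [h1]
        _ = _ := by group
    obtain ⟨o, a, ha, hodd, hot, hoV, hx⟩ := h.cent j ((i w)⁻¹ * x') hcomm (by
      intro e he
      have h1 : (i w)⁻¹ * i e = i e * (i w)⁻¹ := by
        rw [← map_inv, ← map_mul, ← map_mul, V_comm (inv_mem hwV) (mem_E.1 he).1]
      rw [mul_assoc, hxE e he, ← mul_assoc, h1, mul_assoc])
    -- `x' = o y`
    have hx2 : ∃ v ∈ V (K := K) j, x' = o * i v ∨ x' = o * (t * i v) := by
      have haV := (mem_E.1 ha).1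
      rcases hx with hx | hx
      · refine ⟨w * a, mul_mem hwV haV, Or.inl ?_⟩
        have h1 : x' = i w * (o * i a) := by rw [← hx]; group
        rw [h1, map_mul, ← mul_assoc, ← hoV w hwV]; group
      · refine ⟨ofRing τ w * a, mul_mem (ofRing_mem_V hwV) haV, Or.inr ?_⟩
        have h1 : x' = i w * (o * (t * i a)) := by rw [← hx]; group
        rw [h1, map_mul, ← h.act]
        calc i w * (o * (t * i a)) = (i w * o) * (t * i a) := by group
          _ = (o * i w) * (t * i a) := by rw [hoV w hwV]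
          _ = o * (t * (t * i w * t⁻¹ * i a)) := by
            have h2 : t * (t * i w * t⁻¹ * i a) = (t * t) * i w * (t⁻¹ * i a) := by group
            rw [h2, h.tt, one_mul, h.t_inv]; group
    obtain ⟨v, hvV, hx3⟩ := hx2
    have hx4 : x' ^ 4 = 1 := by
      have h1 : x' ^ 4 = g'⁻¹ * i u ^ 4 * g' := by
        rw [hx']
        have := conj_pow (i := 4) (a := g'⁻¹) (b := i u)
        rw [inv_inv] at this
        exact this
      rw [h1, ← map_pow, h.heis_four, map_one]; group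
    have hvt : (t * i v) * (t * i v) = i (ofRing τ v * v) := by
      rw [map_mul, ← h.act, h.t_inv]; group
    have ho1 : o = 1 := by
      have hy : ∃ y : G, x' = o * y ∧ y ^ 4 = 1 ∧ Commute o y := by
        rcases hx3 with hx3 | hx3
        · exact ⟨i v, hx3, by rw [← map_pow, h.heis_four, map_one], hoV v hvV⟩
        · refine ⟨t * i v, hx3, ?_, ?_⟩
          · have h1 : (t * i v) ^ 4 = ((t * i v) * (t * i v)) * ((t * i v) * (t * i v)) := by
              rw [show 4 = 2 * 2 from rfl, pow_mul, pow_two (t * i v), pow_two]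
            rw [h1, hvt, ← map_mul, V_sq (mul_mem (ofRing_mem_V hvV) hvV), map_one]
          · exact (show Commute o t from hot).mul_right (hoV v hvV)
      obtain ⟨y, h1, h2, h3⟩ := hy
      have h4 : o ^ 4 = 1 := by
        rw [h1, h3.mul_pow, h2, mul_one] at hx4
        exact hx4
      have h5 : orderOf o ∣ 2 ^ 2 := orderOf_dvd_of_pow_eq_one h4
      have h6 : Nat.Coprime (orderOf o) (2 ^ 2) := (Nat.coprime_pow_right_iff (by norm_num) _ _).2
        (Nat.coprime_two_right.2 hodd)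
      exact orderOf_eq_one_iff.1 (Nat.Coprime.eq_one_of_dvd h6 h5)
    refine ⟨v, hvV, ?_⟩
    rcases hx3 with hx3 | hx3
    · exfalso
      rw [ho1, one_mul] at hx3
      have h1 : u * u = 1 := by
        apply h.inj
        rw [map_mul, map_one]
        have h2 : x' * x' = 1 := by rw [hx3, ← map_mul, V_sq hvV, map_one]
        have h3 : x' * x' = g'⁻¹ * (i u * i u) * g' := by rw [hx']; group
        rw [h3] at h2
        calc i u * i u = g' * (g'⁻¹ * (i u * i u) * g') * g'⁻¹ := by group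
          _ = 1 := by rw [h2]; group
      rw [Cfsg.Agent.StdL3.HeisTwo.sq_eq_one_iff, hu] at h1
      simp only [mul_eq_zero] at h1
      rcases h1 with (h1 | h1) | h1
      · exact hm h1
      · exact hb h1
      · exact hb h1
    · rw [hx3, ho1, one_mul]
  -- two such elements
  obtain ⟨b, hb0, hb1⟩ : ∃ b : K, b ≠ 0 ∧ b ≠ 1 := by
    by_contra hcon
    push Not at hcon
    have h1 : Nat.card K ≤ 2 := by
      have : Nat.card K ≤ Nat.card Bool := by
        apply Nat.card_le_card_of_injective (fun x : K => decide (x = 0))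
        intro x y hxy
        rw [decide_eq_decide] at hxy
        by_cases hx : x = 0
        · rw [hx, hxy.1 hx]
        · have hy : y ≠ 0 := fun h => hx (hxy.2 h)
          rw [hcon x hx, hcon y hy]
      simpa using this
    rw [h.card] at h1
    have := h.four_le
    nlinarith
  obtain ⟨v1, hv1, h1⟩ := key 1 one_ne_zero
  obtain ⟨v2, hv2, h2⟩ := key b hb0
  set u1 : Heis K := ⟨m * 1, 1, 0⟩ with hu1
  set u2 : Heis K := ⟨m * b, b, 0⟩ with hu2
  have h3 : g'⁻¹ * i (u1 * u2) * g' = i (ofRing τ v1 * v2) := by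
    rw [map_mul, map_mul, ← h.act, h.t_inv]
    calc g'⁻¹ * (i u1 * i u2) * g' = (g'⁻¹ * i u1 * g') * (g'⁻¹ * i u2 * g') := by group
      _ = (t * i v1) * (t * i v2) := by rw [h1, h2]
      _ = _ := by group
  have h4 : (u1 * u2) * (u1 * u2) = 1 := by
    apply h.inj
    rw [map_one, map_mul i (u1 * u2)]
    have h5 : (g'⁻¹ * i (u1 * u2) * g') * (g'⁻¹ * i (u1 * u2) * g') = 1 := by
      rw [h3, ← map_mul, V_sq (mul_mem (ofRing_mem_V hv1) hv2), map_one]
    calc i (u1 * u2) * i (u1 * u2) =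
        g' * ((g'⁻¹ * i (u1 * u2) * g') * (g'⁻¹ * i (u1 * u2) * g')) * g'⁻¹ := by group
      _ = 1 := by rw [h5]; group
  rw [Cfsg.Agent.StdL3.HeisTwo.sq_eq_one_iff, mul_a, mul_b, hu1, hu2] at h4
  have h5 : m * ((1 + b) * (1 + b)) = 0 := by
    rw [← h4]; ring
  rcases mul_eq_zero.1 h5 with h6 | h6
  · exact hm h6
  · have h7 := mul_self_eq_zero.1 h6
    exact hb1 (CharTwo.add_eq_zero.1 h7).symm

/-- **(★)** -/
theorem star [Finite G] [Finite K] (g : G) (hg : g * t * g⁻¹ ∈ h.S) :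
    ∃ x ∈ i.range, g * t * g⁻¹ = x * t * x⁻¹ := by
  obtain ⟨d, hd⟩ : ∃ d, g * t * g⁻¹ = d := ⟨_, rfl⟩
  rw [hd] at hg ⊢
  have hdd : d * d = 1 := by rw [← hd]; exact h.sq_conj g
  have hss : sig (h.r ⟨d, hg⟩) * sig (h.r ⟨d, hg⟩) = 1 := by
    rw [← map_mul, ← map_mul]
    have : (⟨d, hg⟩ : h.S) * ⟨d, hg⟩ = 1 := Subtype.ext hdd
    rw [this, map_one, map_one]
  by_cases hs : sig (h.r ⟨d, hg⟩) = 1
  · rcases pres_or_swp (h.r ⟨d, hg⟩) with hp | hp
    · obtain ⟨u, hu⟩ := h.mem_range_of hg hs hp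
      exact absurd (hd.trans hu) (h.not_range g u)
    · exact (h.case_d hd hg hs hp).elim
  · rcases pres_or_swp (h.r ⟨d, hg⟩) with hp | hp
    · have hs' := OutField.unique_invol hss h.tau_sq hs h.tau_ne
      obtain ⟨u, hu⟩ := h.mem_t_range_of hg hs' hp
      rw [hu] at hdd
      obtain ⟨v, hv⟩ := h.conj_of hdd
      exact ⟨i v, ⟨v, rfl⟩, by rw [hu, hv]⟩
    · exact (h.case_c hd hg hs hp).elim

end FC

end Cfsg.Agent.StdRank2.L3F
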